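import Mathlib
import Cfsg.Prelude.Def_KGroupFacts

/-!
S2067 piece J3O-OUT: an automorphism moving a central commutator induces a non-inner automorphism
of `G ⧸ Z(G)`.
-/

set_option autoImplicit false

namespace Cfsg.Agent.Lib.Helper86.J3OOUT

universe u

theorem exists_outer_of_center_moved {G : Type u} [Group G] (φ : G ≃* G) (ζ g0 b : G)
    (hζ : ζ ∈ Subgroup.center G) (hcomm : g0 * b * g0⁻¹ = ζ * b) (hφ : φ ζ ≠ ζ) :
    ∃ ψ : MulAut (G ⧸ Subgroup.center G), ψ ∉ Cfsg.Inn (G ⧸ Subgroup.center G) := by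
  have hmap : (Subgroup.center G).map (φ : G →* G) = Subgroup.center G :=
    Subgroup.characteristic_iff_map_eq.mp inferInstance φ
  refine ⟨QuotientGroup.congr (Subgroup.center G) (Subgroup.center G) φ hmap, ?_⟩
  rintro ⟨k, hk⟩
  obtain ⟨h, rfl⟩ := QuotientGroup.mk_surjective k
  have hz : ∀ g : G, (h * g * h⁻¹)⁻¹ * φ g ∈ Subgroup.center G := by
    intro g
    have h1 := congrArg (fun f : MulAut (G ⧸ Subgroup.center G) => f (QuotientGroup.mk g)) hk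
    simp only [MulAut.conj_apply] at h1
    rw [QuotientGroup.congr_mk, ← QuotientGroup.mk_mul, ← QuotientGroup.mk_inv,
      ← QuotientGroup.mk_mul] at h1
    exact QuotientGroup.eq.mp h1
  obtain ⟨z1, hz1⟩ : ∃ z1, z1 = (h * g0 * h⁻¹)⁻¹ * φ g0 := ⟨_, rfl⟩
  obtain ⟨z2, hz2⟩ : ∃ z2, z2 = (h * b * h⁻¹)⁻¹ * φ b := ⟨_, rfl⟩
  have e1 : φ g0 = h * g0 * h⁻¹ * z1 := by
    rw [hz1]
    group
  have e2 : φ b = h * b * h⁻¹ * z2 := by
    rw [hz2]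
    group
  have c1 : ∀ g, g * z1 = z1 * g := Subgroup.mem_center_iff.mp (hz1 ▸ hz g0)
  have c2 : ∀ g, g * z2 = z2 * g := Subgroup.mem_center_iff.mp (hz2 ▸ hz b)
  have cζ : ∀ g, g * ζ = ζ * g := Subgroup.mem_center_iff.mp hζ
  have key : φ ζ * φ b = ζ * φ b := by
    rw [← map_mul, ← hcomm, map_mul, map_mul, map_inv, e1, e2]
    calc h * g0 * h⁻¹ * z1 * (h * b * h⁻¹ * z2) * (h * g0 * h⁻¹ * z1)⁻¹
        = h * g0 * h⁻¹ * (z1 * (h * b * h⁻¹ * z2)) * z1⁻¹ * (h * g0 * h⁻¹)⁻¹ := by group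
      _ = h * g0 * h⁻¹ * ((h * b * h⁻¹ * z2) * z1) * z1⁻¹ * (h * g0 * h⁻¹)⁻¹ := by
          rw [← c1 (h * b * h⁻¹ * z2)]
      _ = h * g0 * b * h⁻¹ * (z2 * (h * g0⁻¹ * h⁻¹)) := by group
      _ = h * g0 * b * h⁻¹ * ((h * g0⁻¹ * h⁻¹) * z2) := by rw [← c2 (h * g0⁻¹ * h⁻¹)]
      _ = h * (g0 * b * g0⁻¹) * h⁻¹ * z2 := by group
      _ = h * (ζ * b) * h⁻¹ * z2 := by rw [hcomm]
      _ = (h * ζ) * b * h⁻¹ * z2 := by group
      _ = (ζ * h) * b * h⁻¹ * z2 := by rw [cζ h]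
      _ = ζ * (h * b * h⁻¹ * z2) := by group
  exact hφ (mul_right_cancel key)

end Cfsg.Agent.Lib.Helper86.J3OOUT
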