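import Mathlib
import Cfsg.Agent.Lib.Helper81.AQDefs

/-! Project AQ (S3911, architect helper81), piece CARD0 (backup copy by helper86). -/

set_option autoImplicit false

namespace Cfsg.Agent.Lib.Helper81.AQ

variable {G : Type*} [Group G]

-- piece CARD0
theorem val_eq_of_not_dvd [Finite G] (M : Subgroup G) [M.Normal] (L L' : Subgroup G)
    (hML : M ≤ L) (hL' : L' ≤ L) (hsup : L' ⊔ M = L) (p : ℕ) [Fact p.Prime]
    (hpM : ¬ p ∣ Nat.card M) :
    (Nat.card L').factorization p = (Nat.card L).factorization p := by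
  have h2 : M.relIndex (L' ⊔ M) * Nat.card M = Nat.card (L' ⊔ M : Subgroup G) := by
    rw [← Subgroup.relIndex_bot_left, mul_comm, ← Subgroup.relIndex_bot_left]
    exact Subgroup.relIndex_mul_relIndex ⊥ M (L' ⊔ M) bot_le le_sup_right
  rw [Subgroup.relIndex_sup_right, hsup] at h2
  have h4 : M.relIndex L' * Nat.card (L' ⊓ M : Subgroup G) = Nat.card L' := by
    rw [← Subgroup.inf_relIndex_left, ← Subgroup.relIndex_bot_left, mul_comm,
      ← Subgroup.relIndex_bot_left]
    exact Subgroup.relIndex_mul_relIndex ⊥ (L' ⊓ M) L' bot_le inf_le_left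
  have hMpos : Nat.card M ≠ 0 := Nat.card_pos.ne'
  have hLpos : Nat.card L ≠ 0 := Nat.card_pos.ne'
  have ht : M.relIndex L' ≠ 0 := by
    intro h0
    rw [h0, zero_mul] at h2
    exact hLpos h2.symm
  have hIpos : Nat.card (L' ⊓ M : Subgroup G) ≠ 0 := Nat.card_pos.ne'
  have hpI : ¬ p ∣ Nat.card (L' ⊓ M : Subgroup G) :=
    fun h => hpM (h.trans (Subgroup.card_dvd_of_le inf_le_right))
  rw [← h4, ← h2, Nat.factorization_mul ht hIpos, Nat.factorization_mul ht hMpos]
  simp only [Finsupp.add_apply]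
  rw [Nat.factorization_eq_zero_of_not_dvd hpI, Nat.factorization_eq_zero_of_not_dvd hpM]

end Cfsg.Agent.Lib.Helper81.AQ
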