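import Mathlib
import Cfsg.Agent.Lib.Helper81.AQDefs

/-! Project AQ (S3911, architect helper81), piece CYCB (helper86): if `G` has a cyclic subgroup
of order `p ^ 2` and any two abelian subgroups of the same order are conjugate, then every
abelian `p`-subgroup is cyclic. -/

set_option autoImplicit false

namespace Cfsg.Agent.Lib.Helper81.AQ

variable {G : Type*} [Group G]

private theorem aqcycb_count {A : Type*} [Group A] [Fintype A] [DecidableEq A]
    (hcomm : ∀ a b : A, a * b = b * a) (p : ℕ)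
    (hΩ : (Finset.univ.filter (fun a : A => a ^ p = 1)).card ≤ p) (j : ℕ) :
    (Finset.univ.filter (fun a : A => a ^ (p ^ j) = 1)).card ≤ p ^ j := by
  induction j with
  | zero =>
    have h : (Finset.univ.filter (fun a : A => a ^ (p ^ 0) = 1)) = {1} := by
      ext a
      simp
    rw [h]
    simp
  | succ j ih =>
    have h2 : (Finset.univ.filter (fun a : A => a ^ (p ^ (j + 1)) = 1)).image
        (fun a : A => a ^ p) ⊆ Finset.univ.filter (fun a : A => a ^ (p ^ j) = 1) := by
      intro c hc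
      obtain ⟨a, ha, rfl⟩ := Finset.mem_image.1 hc
      rw [Finset.mem_filter] at ha ⊢
      refine ⟨Finset.mem_univ _, ?_⟩
      rw [← pow_mul, ← pow_succ']
      exact ha.2
    have h1 := Finset.card_le_mul_card_image (f := fun a : A => a ^ p)
      (Finset.univ.filter (fun a : A => a ^ (p ^ (j + 1)) = 1)) p (by
        intro c hc
        obtain ⟨a₀, ha₀, rfl⟩ := Finset.mem_image.1 hc
        refine le_trans (Finset.card_le_card_of_injOn (fun x => x * a₀⁻¹) ?_ ?_) hΩ
        · intro x hx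
          rw [Finset.mem_coe, Finset.mem_filter] at hx
          rw [Finset.mem_coe, Finset.mem_filter]
          refine ⟨Finset.mem_univ _, ?_⟩
          have hx2 : x ^ p = a₀ ^ p := hx.2
          rw [(show Commute x a₀⁻¹ from hcomm x a₀⁻¹).mul_pow, inv_pow, hx2]
          exact mul_inv_cancel _
        · intro x _ y _ hxy
          exact mul_right_cancel hxy)
    calc (Finset.univ.filter (fun a : A => a ^ (p ^ (j + 1)) = 1)).card
        ≤ p * ((Finset.univ.filter (fun a : A => a ^ (p ^ (j + 1)) = 1)).image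
          (fun a : A => a ^ p)).card := h1
      _ ≤ p * (Finset.univ.filter (fun a : A => a ^ (p ^ j) = 1)).card :=
        Nat.mul_le_mul_left _ (Finset.card_le_card h2)
      _ ≤ p * p ^ j := Nat.mul_le_mul_left _ ih
      _ = p ^ (j + 1) := by rw [pow_succ']

private theorem aqcycb_cyclic {A : Type*} [Group A] [Fintype A] [DecidableEq A]
    (hcomm : ∀ a b : A, a * b = b * a) (p : ℕ) [Fact p.Prime] (hA : IsPGroup p A)
    (hΩ : (Finset.univ.filter (fun a : A => a ^ p = 1)).card ≤ p) : IsCyclic A := by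
  apply isCyclic_of_card_pow_eq_one_le
  intro n hn
  have hp : p.Prime := Fact.out
  refine le_trans (Finset.card_le_card ?_) (le_trans (aqcycb_count hcomm p hΩ (n.factorization p))
    (Nat.le_of_dvd hn (Nat.ordProj_dvd n p)))
  intro a ha
  rw [Finset.mem_filter] at ha ⊢
  refine ⟨Finset.mem_univ _, ?_⟩
  obtain ⟨k, hk⟩ := hA a
  have h1 : orderOf a ∣ p ^ k := orderOf_dvd_of_pow_eq_one hk
  obtain ⟨k', -, hk'⟩ := (Nat.dvd_prime_pow hp).1 h1
  have h2 : orderOf a ∣ n := orderOf_dvd_of_pow_eq_one ha.2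
  rw [hk'] at h2
  have h3 : k' ≤ n.factorization p := (hp.pow_dvd_iff_le_factorization hn.ne').1 h2
  apply orderOf_dvd_iff_pow_eq_one.1
  rw [hk']
  exact pow_dvd_pow p h3

-- piece CYCB
theorem abelian_cyclic [Finite G] (hB : Star G) (p : ℕ) [Fact p.Prime] (x : G)
    (hx : orderOf x = p ^ 2) (Q : Subgroup G) (hQ : IsPGroup p Q) (hQc : IsMulCommutative ↥Q) :
    IsCyclic Q := by
  classical
  have hp : p.Prime := Fact.out
  by_contra hnc
  have hfin : Fintype ↥Q := Fintype.ofFinite _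
  have hΩ : p < (Finset.univ.filter (fun a : ↥Q => a ^ p = 1)).card := by
    by_contra hle
    exact hnc (aqcycb_cyclic (fun a b => hQc.is_comm.comm a b) p hQ (not_lt.1 hle))
  obtain ⟨Ω, hΩmem⟩ : ∃ Ω : Subgroup ↥Q, ∀ a : ↥Q, a ∈ Ω ↔ a ^ p = 1 := by
    refine ⟨{ carrier := {a | a ^ p = 1}, mul_mem' := ?_, one_mem' := ?_, inv_mem' := ?_ },
      fun a => Iff.rfl⟩
    · intro a b ha hb
      have ha' : a ^ p = 1 := ha
      have hb' : b ^ p = 1 := hb
      show (a * b) ^ p = 1
      rw [(show Commute a b from hQc.is_comm.comm a b).mul_pow, ha', hb', one_mul]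
    · show (1 : ↥Q) ^ p = 1
      exact one_pow p
    · intro a ha
      have ha' : a ^ p = 1 := ha
      show a⁻¹ ^ p = 1
      rw [inv_pow, ha', inv_one]
  have hΩcard : Nat.card Ω = (Finset.univ.filter (fun a : ↥Q => a ^ p = 1)).card := by
    rw [Nat.card_eq_fintype_card]
    exact Fintype.card_of_subtype _ (fun a => by rw [Finset.mem_filter, hΩmem]; simp)
  obtain ⟨k, hk⟩ := IsPGroup.iff_card.1 (hQ.to_subgroup Ω)
  have h2k : 2 ≤ k := by
    by_contra hlt
    have hk1 : k ≤ 1 := by omega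
    have h1 : p ^ k ≤ p ^ 1 := Nat.pow_le_pow_right hp.pos hk1
    rw [pow_one, ← hk, hΩcard] at h1
    omega
  obtain ⟨K, hK⟩ := Sylow.exists_subgroup_card_pow_prime (G := ↥Ω) p (n := 2)
    (by rw [hk]; exact pow_dvd_pow p h2k)
  obtain ⟨E, hE⟩ : ∃ E : Subgroup G, E = (K.map Ω.subtype).map Q.subtype := ⟨_, rfl⟩
  have hEcard : Nat.card E = p ^ 2 := by
    rw [hE, Subgroup.card_subtype, Subgroup.card_subtype, hK]
  have hEpow : ∀ e ∈ E, e ^ p = 1 := by
    intro e he
    rw [hE] at he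
    obtain ⟨q, ⟨w, -, rfl⟩, rfl⟩ := he
    have h1 : (w : ↥Q) ^ p = 1 := (hΩmem _).1 w.2
    have h2 := congrArg (Subtype.val) h1
    simpa using h2
  have hEQ : E ≤ Q := by
    rw [hE]
    exact Subgroup.map_subtype_le _
  have hEc : IsMulCommutative ↥E := by
    refine ⟨⟨fun a b => Subtype.ext ?_⟩⟩
    have h := congrArg (fun z : ↥Q => (z : G))
      (hQc.is_comm.comm ⟨a.1, hEQ a.2⟩ ⟨b.1, hEQ b.2⟩)
    show (a : G) * (b : G) = (b : G) * (a : G)
    exact h
  obtain ⟨g, hg⟩ := hB (Subgroup.zpowers x) E inferInstance hEc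
    (by rw [Nat.card_zpowers, hx, hEcard])
  have hmem : g * x * g⁻¹ ∈ E := by
    rw [hg]
    exact ⟨x, Subgroup.mem_zpowers x, rfl⟩
  have h1 := hEpow _ hmem
  rw [conj_pow] at h1
  have h2 : x ^ p = 1 := by
    have h3 : g⁻¹ * (g * x ^ p * g⁻¹) * g = g⁻¹ * 1 * g := by rw [h1]
    have h4 : g⁻¹ * (g * x ^ p * g⁻¹) * g = x ^ p := by group
    rw [h4] at h3
    rw [h3]
    group
  have h3 : orderOf x ∣ p := orderOf_dvd_of_pow_eq_one h2
  rw [hx] at h3
  have h4 := Nat.le_of_dvd hp.pos h3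
  have h5 : 2 ≤ p := hp.two_le
  nlinarith

end Cfsg.Agent.Lib.Helper81.AQ
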