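import Mathlib
import Cfsg.Agent.Lib.Helper10.BWDefs
import Cfsg.Agent.Lib.Helper4.Burnside
import Cfsg.Agent.Lib.Helper1.Hall

/-! Piece BW-FIN of S0997 (project BW, architect helper10): `final_normal`. -/

set_option autoImplicit false

namespace Cfsg.Agent.Lib.Helper10.BW

open Cfsg
open Cfsg.Agent.Lib.Helper83 (trivIrr)
open Cfsg.Agent.Lib.Helper10.BR (psum)
open scoped ComplexConjugate

universe u

/-- Abstract form: `M` of index `p + 1` and order `p 2^b` in a simple group, `P ≤ M` of order `p`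
semiregular on the cosets other than `M`: then `P` is normal in `M`. -/
theorem fin_aux {G : Type u} [Group G] [Finite G] [IsSimpleGroup G] (p b : ℕ) (hp : p.Prime)
    (hp2 : p ≠ 2) (P M : Subgroup G) (hP : Nat.card P = p) (hPM : P ≤ M)
    (hM : Nat.card M = p * 2 ^ b) (hidx : M.index = p + 1)
    (hfree : ∀ g : G, g ∉ M → ∀ x ∈ P, x ≠ 1 → g⁻¹ * x * g ∉ M) :
    ∀ m ∈ M, ∀ x ∈ P, m * x * m⁻¹ ∈ P := by
  classical
  have hsolv : Group.IsSolvable M :=
    Cfsg.Agent.Lib.Helper4.burnside p 2 1 b hp Nat.prime_two (by rw [hM, pow_one])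
  have hnt : Nontrivial M := by
    rw [← Finite.one_lt_card_iff_nontrivial, hM]
    have h1 := hp.one_lt
    have h2 : 0 < 2 ^ b := by positivity
    nlinarith
  obtain ⟨r, N, hr, hNn, hNr, hN1⟩ := Cfsg.Agent.Lib.Helper1.exists_normal_pgroup (G := M)
  have hrF : Fact r.Prime := ⟨hr⟩
  obtain ⟨k, hk⟩ := hNr.exists_card_eq
  have hk0 : k ≠ 0 := by
    rintro rfl
    rw [pow_zero] at hk
    exact hN1 (Subgroup.card_eq_one.mp hk)
  have hNdvd : Nat.card N ∣ p * 2 ^ b := by rw [← hM]; exact Subgroup.card_subgroup_dvd_card N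
  have hrdvd : r ∣ p * 2 ^ b := dvd_trans (by rw [hk]; exact dvd_pow_self r hk0) hNdvd
  have hr2 : r = p ∨ r = 2 := by
    rcases (Nat.Prime.dvd_mul hr).mp hrdvd with h1 | h1
    · left; exact (Nat.prime_dvd_prime_iff_eq hr hp).mp h1
    · right; exact (Nat.prime_dvd_prime_iff_eq hr Nat.prime_two).mp (hr.dvd_of_dvd_pow h1)
  have hP' : Nat.card (P.subgroupOf M) = p := by
    rw [← hP]; exact Nat.card_congr (Subgroup.subgroupOfEquivOfLe hPM).toEquiv
  suffices hPN : P.subgroupOf M = N by
    intro m hm x hx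
    have h1 : (⟨x, hPM hx⟩ : M) ∈ P.subgroupOf M := by
      rw [Subgroup.mem_subgroupOf]; exact hx
    rw [hPN] at h1
    have h2 := hNn.conj_mem _ h1 ⟨m, hm⟩
    rw [← hPN, Subgroup.mem_subgroupOf] at h2
    exact h2
  rcases hr2 with rfl | rfl
  · -- `N` is a normal `p`-subgroup of `M`
    have hP'p : IsPGroup r (P.subgroupOf M) := IsPGroup.of_card (n := 1) (by rw [hP', pow_one])
    have hsup : IsPGroup r (N ⊔ P.subgroupOf M : Subgroup M) :=
      IsPGroup.to_sup_of_normal_left hNr hP'p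
    obtain ⟨n, hn⟩ := hsup.exists_card_eq
    have hdvd : r ^ n ∣ r * 2 ^ b := by
      rw [← hn, ← hM]; exact Subgroup.card_subgroup_dvd_card _
    have hcop : Nat.Coprime (r ^ n) (2 ^ b) :=
      Nat.Coprime.pow _ _ ((Nat.coprime_primes hr Nat.prime_two).mpr hp2)
    have hdvd2 : r ^ n ∣ r := hcop.dvd_of_dvd_mul_right hdvd
    have hle : Nat.card (N ⊔ P.subgroupOf M : Subgroup M) ≤ Nat.card (P.subgroupOf M) := by
      rw [hn, hP']; exact Nat.le_of_dvd hr.pos hdvd2
    have h1 : P.subgroupOf M = N ⊔ P.subgroupOf M := Subgroup.eq_of_le_of_card_ge le_sup_right hle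
    have hNP : N ≤ P.subgroupOf M := by rw [h1]; exact le_sup_left
    have h2 : Nat.card (P.subgroupOf M) ≤ Nat.card N := by
      rw [hP', hk]; exact Nat.le_self_pow hk0 r
    exact (Subgroup.eq_of_le_of_card_ge hNP h2).symm
  · -- `N` is a normal `2`-subgroup of `M`: impossible
    exfalso
    have hN'M : N.map M.subtype ≤ M := by
      rintro _ ⟨n, -, rfl⟩; exact n.2
    have hN'2 : IsPGroup 2 (N.map M.subtype) := hNr.map M.subtype
    have hN'norm : ∀ m ∈ M, ∀ n ∈ N.map M.subtype, m * n * m⁻¹ ∈ N.map M.subtype := by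
      rintro m hm _ ⟨n, hn, rfl⟩
      exact ⟨⟨m, hm⟩ * n * ⟨m, hm⟩⁻¹, hNn.conj_mem n hn ⟨m, hm⟩, rfl⟩
    have hcardX : Nat.card (G ⧸ M) = p + 1 := by rw [← hidx]; rfl
    have h2dvd : 2 ∣ p + 1 := by
      rcases hp.eq_two_or_odd' with h | h
      · exact absurd h hp2
      · exact (Odd.add_one h).two_dvd
    have hfix0 : ((1 : G) : G ⧸ M) ∈ MulAction.fixedPoints (N.map M.subtype) (G ⧸ M) := by
      intro n
      have h1 : n • ((1 : G) : G ⧸ M) = (((n : G) * 1 : G) : G ⧸ M) := rfl
      rw [h1, QuotientGroup.eq, mul_one, mul_one]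
      exact M.inv_mem (hN'M n.2)
    obtain ⟨ω, hω, hne⟩ := hN'2.exists_fixed_point_of_prime_dvd_card_of_fixed_point (G ⧸ M)
      (by rw [hcardX]; exact h2dvd) hfix0
    obtain ⟨g, rfl⟩ := QuotientGroup.mk_surjective ω
    have hgM : g ∉ M := by
      intro hg
      apply hne
      exact QuotientGroup.eq.mpr (by simpa using hg)
    have hfixg : ∀ n ∈ N.map M.subtype, g⁻¹ * n * g ∈ M := by
      intro n hn
      have h1 := hω ⟨n, hn⟩
      have h2 : ((n * g : G) : G ⧸ M) = (g : G ⧸ M) := h1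
      rw [QuotientGroup.eq] at h2
      have h3 := M.inv_mem h2
      have e : ((n * g)⁻¹ * g)⁻¹ = g⁻¹ * n * g := by group
      rw [e] at h3
      exact h3
    have htrans : ∀ g' : G, g' ∉ M → ∃ x ∈ P, (x * g)⁻¹ * g' ∈ M := by
      intro g' hg'
      have : Fintype (G ⧸ M) := Fintype.ofFinite _
      have : Fintype P := Fintype.ofFinite _
      let φ : P → G ⧸ M := fun x => (((x : G) * g : G) : G ⧸ M)
      have hφ : Function.Injective φ := by
        intro x y hxy
        have h1 : (((x : G) * g : G) : G ⧸ M) = (((y : G) * g : G) : G ⧸ M) := hxy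
        rw [QuotientGroup.eq] at h1
        have e : ((x : G) * g)⁻¹ * ((y : G) * g) = g⁻¹ * ((x : G)⁻¹ * y) * g := by group
        rw [e] at h1
        by_contra hne2
        have hne' : (x : G)⁻¹ * (y : G) ≠ 1 := by
          intro h
          apply hne2
          exact Subtype.ext (inv_mul_eq_one.mp h)
        exact hfree g hgM _ (P.mul_mem (P.inv_mem x.2) y.2) hne' h1
      have himg : Finset.univ.image φ ⊆ Finset.univ.erase ((1 : G) : G ⧸ M) := by
        intro ω hω2
        rw [Finset.mem_image] at hω2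
        obtain ⟨x, -, rfl⟩ := hω2
        rw [Finset.mem_erase]
        refine ⟨?_, Finset.mem_univ _⟩
        intro h
        have h1 : (((x : G) * g : G) : G ⧸ M) = ((1 : G) : G ⧸ M) := h
        rw [QuotientGroup.eq] at h1
        have h2 := M.inv_mem h1
        rw [mul_one, inv_inv] at h2
        apply hgM
        have h3 := M.mul_mem (M.inv_mem (hPM x.2)) h2
        rw [inv_mul_cancel_left] at h3
        exact h3
      have hcard : (Finset.univ.erase ((1 : G) : G ⧸ M)).card ≤ (Finset.univ.image φ).card := by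
        rw [Finset.card_erase_of_mem (Finset.mem_univ _), Finset.card_image_of_injective _ hφ,
          Finset.card_univ, Finset.card_univ, ← Nat.card_eq_fintype_card,
          ← Nat.card_eq_fintype_card, hcardX, hP]
        omega
      have heq := Finset.eq_of_subset_of_card_le himg hcard
      have hmem : ((g' : G) : G ⧸ M) ∈ Finset.univ.image φ := by
        rw [heq, Finset.mem_erase]
        refine ⟨?_, Finset.mem_univ _⟩
        intro h
        have h1 : ((g' : G) : G ⧸ M) = ((1 : G) : G ⧸ M) := h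
        rw [QuotientGroup.eq] at h1
        have h2 := M.inv_mem h1
        rw [mul_one, inv_inv] at h2
        exact hg' h2
      rw [Finset.mem_image] at hmem
      obtain ⟨x, -, hx⟩ := hmem
      refine ⟨x, x.2, ?_⟩
      have h1 : (((x : G) * g : G) : G ⧸ M) = ((g' : G) : G ⧸ M) := hx
      rw [QuotientGroup.eq] at h1
      exact h1
    have hcore : N.map M.subtype ≤ M.normalCore := by
      intro n hn
      show ∀ b : G, b * n * b⁻¹ ∈ M
      intro g'
      by_cases hg' : g'⁻¹ ∈ M
      · have h1 : g' ∈ M := by simpa using M.inv_mem hg'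
        exact M.mul_mem (M.mul_mem h1 (hN'M hn)) hg'
      · obtain ⟨x, hx, hxg⟩ := htrans g'⁻¹ hg'
        have h1 : x⁻¹ * n * x ∈ N.map M.subtype := by
          have h0 := hN'norm x⁻¹ (M.inv_mem (hPM hx)) n hn
          rw [inv_inv] at h0
          exact h0
        have h2 := hfixg _ h1
        have e : g' * n * g'⁻¹ = ((x * g)⁻¹ * g'⁻¹)⁻¹ * (g⁻¹ * (x⁻¹ * n * x) * g) *
            ((x * g)⁻¹ * g'⁻¹) := by group
        rw [e]
        exact M.mul_mem (M.mul_mem (M.inv_mem hxg) h2) hxg
    have hcore_bot : M.normalCore = ⊥ := by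
      rcases (Subgroup.normalCore_normal M).eq_bot_or_eq_top with h | h
      · exact h
      · exfalso
        have h1 : M = ⊤ := top_le_iff.mp (h ▸ Subgroup.normalCore_le M)
        rw [h1, Subgroup.index_top] at hidx
        have h2 := hp.pos
        omega
    have hN'bot : N.map M.subtype = ⊥ := le_bot_iff.mp (hcore_bot ▸ hcore)
    apply hN1
    exact (Subgroup.map_eq_bot_iff_of_injective N M.subtype_injective).mp hN'bot

variable {G : Type u} [Group G] [Fintype G]

variable {p e : ℕ} {P : Subgroup G} {θ θ' : IrrCharacter G}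
  {Xp Xm D : Finset (IrrCharacter G)}

set_option linter.unusedVariables false in
/-- BW-FIN -/
theorem final_normal (h : VTab G p e P θ θ' Xp Xm D) [IsSimpleGroup G] (hG : ¬ IsCyclic G)
    (M : Subgroup G) (hPM : P ≤ M) (hidx : (p + 1) * Nat.card M = Nat.card G)
    (hfree : ∀ g : G, g ∉ M → ∀ x ∈ P, x ≠ 1 → g⁻¹ * x * g ∉ M) :
    ∀ m ∈ M, ∀ x ∈ P, m * x * m⁻¹ ∈ P := by
  have hp := h.hp
  have hpe := h.hpe
  obtain ⟨b, hb⟩ := h.cardG
  have hMpos : 0 < Nat.card M := Nat.card_pos
  have h1 : 2 * Nat.card M = p * 2 ^ b := by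
    have h2 : (p + 1) * Nat.card M = p * 2 ^ b * (e + 1) := by rw [hidx, hb]
    have h3 : (e + 1) * (2 * Nat.card M) = (e + 1) * (p * 2 ^ b) := by
      rw [hpe] at h2 ⊢
      linarith
    exact Nat.eq_of_mul_eq_mul_left (Nat.succ_pos e) h3
  have hp2 : p ≠ 2 := by omega
  have hb0 : b ≠ 0 := by
    rintro rfl
    rw [pow_zero, mul_one] at h1
    omega
  obtain ⟨b', rfl⟩ := Nat.exists_eq_succ_of_ne_zero hb0
  have hM : Nat.card M = p * 2 ^ b' := by
    rw [pow_succ] at h1
    have h4 : 2 * Nat.card M = 2 * (p * 2 ^ b') := by rw [h1]; ring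
    exact Nat.eq_of_mul_eq_mul_left (by norm_num) h4
  have hindex : M.index = p + 1 := by
    have h5 := Subgroup.index_mul_card M
    rw [← hidx] at h5
    exact Nat.eq_of_mul_eq_mul_right hMpos h5
  exact fin_aux p b' hp hp2 P M h.cardP hPM hM hindex hfree

end Cfsg.Agent.Lib.Helper10.BW
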