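import Cfsg.Agent.Lib.Helper22.Defect
import Cfsg.Agent.Lib.Helper83.Central

set_option autoImplicit false
set_option linter.unusedSimpArgs false
set_option linter.unusedVariables false
set_option linter.style.haveILetI false

namespace Cfsg.Agent.Lib.Helper86

open Cfsg
open scoped ComplexConjugate

/-- A central element acts as a scalar: `χ(xz) χ(1) = χ(x) χ(z)`. -/
theorem irr_mul_central {G : Type*} [Group G] [Fintype G] (χ : IrrCharacter G) (z : G)
    (hz : z ∈ Subgroup.center G) (x : G) :
    (χ : G → ℂ) (x * z) * (χ : G → ℂ) 1 = (χ : G → ℂ) x * (χ : G → ℂ) z := by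
  have h := Helper83.irr_avg_conj χ.2 x z
  have h1 : ∀ g : G, g * z * g⁻¹ = z := by
    intro g
    rw [Subgroup.mem_center_iff.mp hz g, mul_inv_cancel_right]
  simp only [h1, Finset.sum_const, Finset.card_univ, nsmul_eq_mul] at h
  rw [Nat.card_eq_fintype_card] at h
  have hG : (Fintype.card G : ℂ) ≠ 0 := by exact_mod_cast Fintype.card_ne_zero
  have h2 : (Fintype.card G : ℂ) * ((χ : G → ℂ) (x * z) * (χ : G → ℂ) 1) =
      (Fintype.card G : ℂ) * ((χ : G → ℂ) x * (χ : G → ℂ) z) := by linear_combination h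
  exact mul_left_cancel₀ hG h2

/-- If a linear character `η` is not orthogonal to `φ` and `φ` transforms by the scalar `c`
under right translation by `z`, then `η z = c`. -/
theorem linear_value_of_sum_ne_zero {H : Type*} [Group H] [Fintype H] (φ η : H → ℂ)
    (hη : IsIrrCharacter H η) (h1 : η 1 = 1)
    (hS : ∑ d : H, φ d * conj (η d) ≠ 0) (z : H) (c : ℂ) (hc : ∀ d : H, φ (d * z) = φ d * c) :
    η z = c := by
  have hre : ∑ d : H, φ (d * z) * conj (η (d * z)) = ∑ d : H, φ d * conj (η d) :=
    Fintype.sum_equiv (Equiv.mulRight z) _ _ (fun d => rfl)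
  have h2 : ∑ d : H, φ (d * z) * conj (η (d * z)) =
      (c * conj (η z)) * ∑ d : H, φ d * conj (η d) := by
    rw [Finset.mul_sum]
    refine Finset.sum_congr rfl fun d _ => ?_
    rw [hc d, Helper83.irr_linear_mul hη h1, map_mul]
    ring
  have h3 : c * conj (η z) = 1 := by
    have h4 : (c * conj (η z) - 1) * ∑ d : H, φ d * conj (η d) = 0 := by
      rw [sub_mul, one_mul, ← h2, hre, sub_self]
    rcases mul_eq_zero.mp h4 with h5 | h5
    · exact sub_eq_zero.mp h5
    · exact absurd h5 hS
  have hn : η z * conj (η z) = 1 := by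
    rw [Complex.mul_conj, Complex.normSq_eq_norm_sq, Helper83.irr_linear_norm hη h1 z]
    simp
  have hne : conj (η z) ≠ 0 := by
    intro h0
    rw [h0, mul_zero] at h3
    exact zero_ne_one h3
  exact mul_right_cancel₀ hne (hn.trans h3.symm)

/-- If the restriction of `χ` to a `p`-subgroup `P` of `C_G(g)` has no linear constituent, then
`χ(g)` is `p` times an algebraic integer. -/
theorem char_value_dvd_of_no_linear {G : Type*} [Group G] [Finite G] (p : ℕ) [Fact p.Prime]
    (χ : IrrCharacter G) (g : G) (C : Subgroup G) (hgC : g ∈ C)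
    (hcomm : ∀ x ∈ C, g * x = x * g)
    (P : Subgroup C) (hP : IsPGroup p P) [Fintype P]
    (hno : ∀ η : IrrCharacter P, (η : P → ℂ) 1 = 1 →
      ∑ d : P, (χ : G → ℂ) ((d : C) : G) * conj ((η : P → ℂ) d) = 0) :
    ∃ α : ℂ, IsIntegral ℤ α ∧ (χ : G → ℂ) g = (p : ℂ) * α := by
  classical
  haveI := Fintype.ofFinite G
  haveI : Fintype C := Fintype.ofFinite C
  have : Finite (IrrCharacter C) := Helper4.irr_finite
  haveI : Fintype (IrrCharacter C) := Fintype.ofFinite _
  have : Finite (IrrCharacter P) := Helper4.irr_finite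
  haveI : Fintype (IrrCharacter P) := Fintype.ofFinite _
  obtain ⟨m, hm, -, -⟩ := Helper83.restrict_decomp χ C
  have hdec : ∀ θ : IrrCharacter C, ∃ n : IrrCharacter P → ℕ,
      (∀ k : P, (θ : C → ℂ) k = ∑ η : IrrCharacter P, (n η : ℂ) * (η : P → ℂ) k) ∧
      charDegree (θ : C → ℂ) = ∑ η : IrrCharacter P, n η * charDegree (η : P → ℂ) := by
    intro θ
    obtain ⟨n, hn1, -, hn2⟩ := Helper83.restrict_decomp θ P
    exact ⟨n, hn1, hn2⟩
  choose n hn1 hn2 using hdec
  have hP0 : (Nat.card P : ℂ) ≠ 0 := by exact_mod_cast Nat.card_pos.ne'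
  have hinner : ∀ η : IrrCharacter P,
      ∑ d : P, (χ : G → ℂ) ((d : C) : G) * conj ((η : P → ℂ) d)
        = (Nat.card P : ℂ) * ∑ θ : IrrCharacter C, (m θ : ℂ) * (n θ η : ℂ) := by
    intro η
    have horth : ∀ η' : IrrCharacter P, ∑ d : P, (η' : P → ℂ) d * conj ((η : P → ℂ) d) =
        if η' = η then (Nat.card P : ℂ) else 0 := by
      intro η'
      have h := Helper83.irr_orthonormal η' η
      unfold classInner at h
      split_ifs at h ⊢ with heq
      · field_simp at h
        exact h
      · rcases mul_eq_zero.mp h with h' | h'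
        · exact absurd (inv_eq_zero.mp h') hP0
        · exact h'
    calc ∑ d : P, (χ : G → ℂ) ((d : C) : G) * conj ((η : P → ℂ) d)
        = ∑ d : P, ∑ θ : IrrCharacter C, ∑ η' : IrrCharacter P,
            (m θ : ℂ) * (n θ η' : ℂ) * ((η' : P → ℂ) d * conj ((η : P → ℂ) d)) := by
          refine Finset.sum_congr rfl fun d _ => ?_
          rw [hm (d : C), Finset.sum_mul]
          refine Finset.sum_congr rfl fun θ _ => ?_
          rw [hn1 θ d, Finset.mul_sum, Finset.sum_mul]
          refine Finset.sum_congr rfl fun η' _ => ?_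
          ring
      _ = ∑ θ : IrrCharacter C, ∑ η' : IrrCharacter P,
            (m θ : ℂ) * (n θ η' : ℂ) * ∑ d : P, ((η' : P → ℂ) d * conj ((η : P → ℂ) d)) := by
          rw [Finset.sum_comm]
          refine Finset.sum_congr rfl fun θ _ => ?_
          rw [Finset.sum_comm]
          refine Finset.sum_congr rfl fun η' _ => ?_
          rw [Finset.mul_sum]
      _ = _ := by
          rw [Finset.mul_sum]
          refine Finset.sum_congr rfl fun θ _ => ?_
          simp only [horth, mul_ite, mul_zero, Finset.sum_ite_eq', Finset.mem_univ, if_true]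
          ring
  have hzero : ∀ θ : IrrCharacter C, m θ ≠ 0 → ∀ η : IrrCharacter P, (η : P → ℂ) 1 = 1 →
      n θ η = 0 := by
    intro θ hmθ η hη1
    have h := hinner η
    rw [hno η hη1] at h
    have h2 : ∑ θ : IrrCharacter C, (m θ : ℂ) * (n θ η : ℂ) = 0 := by
      rcases mul_eq_zero.mp h.symm with h' | h'
      · exact absurd h' hP0
      · exact h'
    have h3 : ∑ θ : IrrCharacter C, m θ * n θ η = 0 := by exact_mod_cast h2
    have h4 := (Finset.sum_eq_zero_iff.mp h3) θ (Finset.mem_univ θ)
    rcases Nat.mul_eq_zero.mp h4 with h5 | h5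
    · exact absurd h5 hmθ
    · exact h5
  have hpdeg : ∀ η : IrrCharacter P, (η : P → ℂ) 1 ≠ 1 → p ∣ charDegree (η : P → ℂ) := by
    intro η hη1
    have hdvd := Helper83.irr_degree_dvd_card η
    obtain ⟨k, hk⟩ := IsPGroup.iff_card.mp hP
    rw [hk] at hdvd
    obtain ⟨j, hj, hj2⟩ := (Nat.dvd_prime_pow (Fact.out : p.Prime)).mp hdvd
    rw [hj2]
    rcases Nat.eq_zero_or_pos j with h0 | h0
    · exfalso
      apply hη1
      rw [(Helper83.irr_degree η.2).2, hj2, h0]
      simp
    · exact dvd_pow_self p h0.ne'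
  have hpθ : ∀ θ : IrrCharacter C, m θ ≠ 0 → p ∣ charDegree (θ : C → ℂ) := by
    intro θ hmθ
    rw [hn2 θ]
    refine Finset.dvd_sum fun η _ => ?_
    by_cases hη1 : (η : P → ℂ) 1 = 1
    · rw [hzero θ hmθ η hη1, zero_mul]
      exact dvd_zero p
    · exact Dvd.dvd.mul_left (hpdeg η hη1) _
  set g' : C := ⟨g, hgC⟩ with hg'
  have hcent : ∀ θ : IrrCharacter C, ∃ ω : ℂ, IsIntegral ℤ ω ∧
      (θ : C → ℂ) g' = (charDegree (θ : C → ℂ) : ℂ) * ω := by
    intro θ
    refine ⟨centralChar (θ : C → ℂ) g', Helper21.centralChar_isIntegral θ g', ?_⟩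
    have hidx : (Subgroup.centralizer ({g'} : Set C)).index = 1 := by
      have : Subgroup.centralizer ({g'} : Set C) = ⊤ := by
        rw [eq_top_iff]
        intro x _
        rw [Subgroup.mem_centralizer_iff]
        intro h hh
        rw [Set.mem_singleton_iff.mp hh]
        apply Subtype.ext
        exact hcomm x x.2
      rw [this, Subgroup.index_top]
    unfold centralChar
    rw [hidx, (Helper83.irr_degree θ.2).2]
    have hne : (charDegree (θ : C → ℂ) : ℂ) ≠ 0 := by
      exact_mod_cast (Helper83.irr_degree θ.2).1.ne'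
    field_simp
    simp
  choose ω hω1 hω2 using hcent
  have hχg : (χ : G → ℂ) g = ∑ θ : IrrCharacter C, (m θ : ℂ) * (θ : C → ℂ) g' := hm g'
  refine ⟨∑ θ : IrrCharacter C, ((m θ * (charDegree (θ : C → ℂ) / p) : ℕ) : ℂ) * ω θ, ?_, ?_⟩
  · refine IsIntegral.sum _ fun θ _ => ?_
    exact IsIntegral.mul isIntegral_algebraMap (hω1 θ)
  · rw [hχg, Finset.mul_sum]
    refine Finset.sum_congr rfl fun θ _ => ?_
    rw [hω2 θ]
    by_cases hmθ : m θ = 0
    · simp [hmθ]
    · obtain ⟨k, hk⟩ := hpθ θ hmθ
      rw [hk, Nat.mul_div_cancel_left k (Fact.out : p.Prime).pos]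
      push_cast
      ring

/-- For a height zero character in a block with defect class `g`, the value `χ(g)` is not
`p` times an algebraic integer. -/
theorem height_zero_not_dvd {G : Type*} [Group G] [Fintype G] {p : ℕ} {M : Ideal AlgInt}
    (hM : IsPModular p M) (B : Set (IrrCharacter G)) (hB : IsPBlock M B) (g : G)
    (hg : IsDefectClass M B g) (χ : IrrCharacter G) (hχ : χ ∈ B)
    (h0 : blockHeight p B (χ : G → ℂ) = 0) (α : ℂ) (hα : IsIntegral ℤ α)
    (hχg : (χ : G → ℂ) g = (p : ℂ) * α) : False := by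
  have hp := hM.1
  set C := Subgroup.centralizer ({g} : Set G) with hC
  have hunit := hg.2.2 χ hχ
  have hlow := Helper22.index_factorization_le_of_centralChar_unit hM χ g hunit
  have hdef := Helper22.blockDefect_eq_of_defectClass hM B hB g hg
  obtain ⟨hpos, hχ1⟩ := Helper83.irr_degree χ.2
  set n := charDegree (χ : G → ℂ) with hn
  set S : Set ℕ := (fun ψ : IrrCharacter G => (charDegree (ψ : G → ℂ)).factorization p) '' B
    with hS
  have hmem : n.factorization p ∈ S := ⟨χ, hχ, rfl⟩
  have hinfle : sInf S ≤ n.factorization p := Nat.sInf_le hmem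
  have hh : n.factorization p ≤ sInf S := by
    unfold blockHeight at h0
    exact Nat.sub_eq_zero_iff_le.mp h0
  have hndvd : n ∣ Nat.card G := Helper83.irr_degree_dvd_card χ
  have hnle : n.factorization p ≤ (Nat.card G).factorization p :=
    (Nat.factorization_le_iff_dvd hpos.ne' Nat.card_pos.ne').mpr hndvd p
  have hidx0 : C.index ≠ 0 := Subgroup.index_ne_zero_of_finite
  have hC0 : Nat.card C ≠ 0 := Nat.card_pos.ne'
  have hfac : (Nat.card G).factorization p =
      C.index.factorization p + (Nat.card C).factorization p := by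
    rw [← Subgroup.index_mul_card C, Nat.factorization_mul hidx0 hC0]
    rfl
  have hdef' : (Nat.card G).factorization p - sInf S = (Nat.card C).factorization p := hdef
  have heq : n.factorization p = C.index.factorization p := by omega
  obtain ⟨k, hk⟩ := Nat.ordProj_dvd C.index p
  obtain ⟨n', hn'⟩ := Nat.ordProj_dvd n p
  have hn'p : ¬ p ∣ n' := by
    have h1 := Nat.not_dvd_ordCompl hp hpos.ne'
    have e : n / p ^ n.factorization p = n' :=
      Nat.div_eq_of_eq_mul_right (pow_pos hp.pos _) hn'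
    rw [e] at h1
    exact h1
  have hp0 : (p : ℂ) ≠ 0 := by exact_mod_cast hp.ne_zero
  have hn'0 : (n' : ℂ) ≠ 0 := by
    intro h
    apply hn'p
    have h2 : n' = 0 := by exact_mod_cast h
    rw [h2]
    exact dvd_zero p
  have hcc : centralChar (χ : G → ℂ) g = (p : ℂ) * ((k : ℂ) * α * (n' : ℂ)⁻¹) := by
    unfold centralChar
    rw [hχ1, hχg]
    have h1 : ((C.index : ℕ) : ℂ) = (p : ℂ) ^ (C.index.factorization p) * (k : ℂ) := by
      exact_mod_cast hk
    have h2 : (n : ℂ) = (p : ℂ) ^ (C.index.factorization p) * (n' : ℂ) := by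
      rw [← heq]
      exact_mod_cast hn'
    rw [h1, h2]
    field_simp
  apply hunit
  rw [hcc]
  exact Helper21.locIdeal_mul_right hM ((Helper21.locIdeal_natCast_iff hM p).mpr dvd_rfl)
    (Helper21.locRing_mul hM (Helper21.locRing_mul hM (Helper21.locRing_natCast hM k)
      (Helper21.locRing_of_isIntegral hM hα)) (Helper21.locRing_inv_natCast hM hn'p))

end Cfsg.Agent.Lib.Helper86
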