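import Mathlib
import Cfsg.Agent.Lib.Helper18.CTDefs

/-! Project CT (S4699, architect helper18), piece LA2 (backup copy by helper86): the range of
the conjugation trace. -/

set_option autoImplicit false

namespace Cfsg.Agent.Lib.Helper18.CT

variable {G : Type*} [Group G] {F : Type*} [Field F] {V : Type*} [AddCommGroup V] [Module F V]

private theorem la2b_pow (X Xi : Module.End F V) (i : ℕ) (ψ : Module.End F V) :
    ((LinearMap.mulLeft F X * LinearMap.mulRight F Xi) ^ i) ψ = X ^ i * ψ * Xi ^ i := by
  rw [(LinearMap.commute_mulLeft_right X Xi).mul_pow, LinearMap.pow_mulLeft,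
    LinearMap.pow_mulRight]
  simp only [Module.End.mul_apply, LinearMap.mulLeft_apply, LinearMap.mulRight_apply, mul_assoc]

-- piece LA2
theorem trX_range (p : ℕ) [Fact p.Prime] [CharP F p] (n : ℕ)
    (hgeom : ∀ T : Module.End F (Module.End F V),
      ∑ i ∈ Finset.range (p ^ n), T ^ i = (T - 1) ^ (p ^ n - 1))
    (X Xi : Module.End F V) (h1 : X * Xi = 1) (h2 : Xi * X = 1) (k : ℕ) (hk : k ≤ p ^ n)
    (hy : (X - 1) ^ k = 0) (φ : Module.End F V) :
    LinearMap.range (trX X Xi (p ^ n) φ) ≤ LinearMap.range ((X - 1) ^ (p ^ n - k)) := by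
  classical
  have hqpos : 0 < p ^ n := pow_pos (Fact.out : p.Prime).pos n
  generalize p ^ n = q at hgeom hk hqpos ⊢
  have hT : trX X Xi q φ =
      ((LinearMap.mulLeft F X * LinearMap.mulRight F Xi - 1) ^ (q - 1)) φ := by
    rw [← hgeom, LinearMap.sum_apply]
    unfold trX
    refine Finset.sum_congr rfl fun i _ => ?_
    rw [la2b_pow]
  have hdec : LinearMap.mulLeft F X * LinearMap.mulRight F Xi - 1 =
      LinearMap.mulLeft F (X - 1) * LinearMap.mulRight F Xi +
        LinearMap.mulRight F (Xi - 1) := by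
    apply LinearMap.ext
    intro ψ
    simp only [LinearMap.sub_apply, LinearMap.add_apply, Module.End.mul_apply,
      LinearMap.mulLeft_apply, LinearMap.mulRight_apply, Module.End.one_apply]
    noncomm_ring
  have hcomm : Commute (LinearMap.mulLeft F (X - 1) * LinearMap.mulRight F Xi)
      (LinearMap.mulRight F (Xi - 1)) := by
    have hc1 : Commute (LinearMap.mulLeft F (X - 1)) (LinearMap.mulRight F (Xi - 1)) :=
      LinearMap.commute_mulLeft_right _ _
    have hc2 : Commute (LinearMap.mulRight F Xi) (LinearMap.mulRight F (Xi - 1)) := by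
      apply LinearMap.ext
      intro ψ
      simp only [Module.End.mul_apply, LinearMap.mulRight_apply]
      noncomm_ring
    exact hc1.mul_left hc2
  have hXi : (Xi - 1) ^ k = 0 := by
    have he : Xi - 1 = (-Xi) * (X - 1) := by
      have h3 : (-Xi) * (X - 1) = -(Xi * X) + Xi := by noncomm_ring
      rw [h3, h2]
      abel
    have hc : Commute (-Xi) (X - 1) := by
      have hXX : Commute Xi X := by
        show Xi * X = X * Xi
        rw [h1, h2]
      exact (hXX.neg_left).sub_right (Commute.one_right _)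
    rw [he, hc.mul_pow, hy, mul_zero]
  have hb : ∀ j, k ≤ j → (LinearMap.mulRight F (Xi - 1)) ^ j = 0 := by
    intro j hj
    rw [LinearMap.pow_mulRight]
    have h3 : (Xi - 1) ^ j = 0 := by
      rw [← Nat.sub_add_cancel hj, pow_add, hXi, mul_zero]
    rw [h3]
    apply LinearMap.ext
    intro ψ
    simp
  rintro _ ⟨v, rfl⟩
  rw [hT, hdec, hcomm.add_pow, LinearMap.sum_apply, LinearMap.sum_apply]
  refine Submodule.sum_mem _ fun m hm => ?_
  by_cases hmk : k ≤ q - 1 - m
  · rw [hb _ hmk, mul_zero, zero_mul, LinearMap.zero_apply, LinearMap.zero_apply]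
    exact Submodule.zero_mem _
  · have hmq : q - k ≤ m := by omega
    rw [Module.End.mul_apply, Module.End.mul_apply, la2b_pow]
    have hpow : (X - 1) ^ m = (X - 1) ^ (q - k) * (X - 1) ^ (m - (q - k)) := by
      rw [← pow_add, Nat.add_sub_cancel' hmq]
    rw [hpow]
    refine ⟨((X - 1) ^ (m - (q - k)) *
      ((LinearMap.mulRight F (Xi - 1) ^ (q - 1 - m)) (((((q - 1).choose m : ℕ) :
        Module.End F (Module.End F V))) φ)) * Xi ^ m) v, ?_⟩
    simp only [mul_assoc, Module.End.mul_apply]

end Cfsg.Agent.Lib.Helper18.CT
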