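import Mathlib
import Cfsg.Agent.Lib.Helper4.FCDefs

/-! Project FC (S4146, architect helper4), piece E3 (helper86). -/

namespace Cfsg.Agent.Lib.Helper4.FC

universe u

theorem e3_helper86_relIndex_dvd {G : Type u} [Group G] [Finite G] (H N : Subgroup G)
    [N.Normal] : H.relIndex N ∣ H.index := by
  have h1 : H.relIndex (H ⊔ N) * Nat.card H = Nat.card (H ⊔ N : Subgroup G) := by
    rw [← Subgroup.relIndex_bot_left, mul_comm, ← Subgroup.relIndex_bot_left]
    exact Subgroup.relIndex_mul_relIndex ⊥ H (H ⊔ N) bot_le le_sup_left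
  have h2 : N.relIndex (H ⊔ N) * Nat.card N = Nat.card (H ⊔ N : Subgroup G) := by
    rw [← Subgroup.relIndex_bot_left, mul_comm, ← Subgroup.relIndex_bot_left]
    exact Subgroup.relIndex_mul_relIndex ⊥ N (H ⊔ N) bot_le le_sup_right
  rw [Subgroup.relIndex_sup_right] at h2
  have h3 : H.relIndex N * Nat.card (H ⊓ N : Subgroup G) = Nat.card N := by
    rw [← Subgroup.inf_relIndex_right, ← Subgroup.relIndex_bot_left, mul_comm,
      ← Subgroup.relIndex_bot_left]
    exact Subgroup.relIndex_mul_relIndex ⊥ (H ⊓ N) N bot_le inf_le_right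
  have h4 : N.relIndex H * Nat.card (H ⊓ N : Subgroup G) = Nat.card H := by
    rw [← Subgroup.inf_relIndex_left, ← Subgroup.relIndex_bot_left, mul_comm,
      ← Subgroup.relIndex_bot_left]
    exact Subgroup.relIndex_mul_relIndex ⊥ (H ⊓ N) H bot_le inf_le_left
  have hpos : 0 < Nat.card H := Nat.card_pos
  have heq : H.relIndex (H ⊔ N) * Nat.card H = H.relIndex N * Nat.card H := by
    rw [h1, ← h2, ← h3, ← h4]; ring
  rw [← Nat.eq_of_mul_eq_mul_right hpos heq]
  exact Subgroup.relIndex_dvd_index_of_le le_sup_left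

/-- if `|G : C(a) ∩ C(z)| = cs a * cs z` then `G = C(a) C(z)` -/
theorem e3_helper86_factor {G : Type u} [Group G] [Finite G] (a z : G) (n m : ℕ) (hn : 0 < n)
    (ha : cs a = n) (hz : cs z = m) (hL : (Cen a ⊓ Cen z).index = n * m) (g : G) :
    ∃ c ∈ Cen a, c⁻¹ * g ∈ Cen z := by
  classical
  have hrel : (Cen z).relIndex (Cen a) = m := by
    have h1 : (Cen a ⊓ Cen z).relIndex (Cen a) * (Cen a).index = (Cen a ⊓ Cen z).index :=
      Subgroup.relIndex_mul_index inf_le_left
    rw [Subgroup.inf_relIndex_left, hL, show (Cen a).index = n from ha] at h1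
    exact Nat.eq_of_mul_eq_mul_right hn (by rw [h1, mul_comm])
  have hstab : MulAction.stabilizer (↥(Cen a)) ((1 : G) : G ⧸ Cen z) =
      (Cen z).subgroupOf (Cen a) := by
    ext c
    rw [MulAction.mem_stabilizer_iff, Subgroup.mem_subgroupOf]
    show (((c : G) * 1 : G) : G ⧸ Cen z) = ((1 : G) : G ⧸ Cen z) ↔ _
    rw [QuotientGroup.eq, mul_one, mul_one, inv_mem_iff]
  have horb : (MulAction.orbit (↥(Cen a)) ((1 : G) : G ⧸ Cen z)) = Set.univ := by
    rw [Set.eq_univ_iff_ncard, ← MulAction.index_stabilizer, hstab]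
    show (Cen z).relIndex (Cen a) = (Cen z).index
    rw [hrel]
    exact hz.symm
  have hg : ((g : G) : G ⧸ Cen z) ∈ MulAction.orbit (↥(Cen a)) ((1 : G) : G ⧸ Cen z) := by
    rw [horb]
    exact Set.mem_univ _
  obtain ⟨c, hc⟩ := hg
  refine ⟨c.1, c.2, ?_⟩
  have hc' : (((c : G) * 1 : G) : G ⧸ Cen z) = ((g : G) : G ⧸ Cen z) := hc
  rw [QuotientGroup.eq, mul_one] at hc'
  exact hc'

theorem fc_e3 : MSubStmt.{u} → L1Stmt.{u} → E3Stmt.{u} := by
  intro hMSub hL1 G _ _ n m a y hFour hmn ha hy hcop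
  classical
  obtain ⟨M, hMn, hM⟩ := hMSub G n m hFour hmn
  obtain ⟨hn1, hm1, hnm, -, -, -, -⟩ := hFour
  have hconj : ∀ z : G, z ∈ M → z ∈ Cen a → ∀ g : G, g * z * g⁻¹ ∈ Cen a := by
    intro z hzM hza g
    rcases (hM z).1 hzM with h1 | hzm
    · have htop : Cen z = ⊤ := Subgroup.index_eq_one.1 h1
      have hgz : g ∈ Cen z := by
        rw [htop]
        exact Subgroup.mem_top g
      have hcomm : z * g = g * z :=
        (Subgroup.mem_centralizer_iff.1 hgz) z (Set.mem_singleton z)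
      have hh : g * z * g⁻¹ = z := by
        rw [← hcomm, mul_inv_cancel_right]
      rw [hh]
      exact hza
    · have hcp : (cs a).Coprime (cs z) := by
        rw [ha, hzm]
        exact hnm
      have hL := hL1 G a z hcp
      rw [ha, hzm] at hL
      obtain ⟨c, hc, hd⟩ := e3_helper86_factor a z n m (by omega) ha hzm hL g
      have hdz : z * (c⁻¹ * g) = (c⁻¹ * g) * z :=
        (Subgroup.mem_centralizer_iff.1 hd) z (Set.mem_singleton z)
      have hca : a * c = c * a := (Subgroup.mem_centralizer_iff.1 hc) a (Set.mem_singleton a)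
      have hza' : a * z = z * a := (Subgroup.mem_centralizer_iff.1 hza) a (Set.mem_singleton a)
      have hgz : g * z * g⁻¹ = c * z * c⁻¹ := by
        calc g * z * g⁻¹ = c * ((c⁻¹ * g) * z) * (c⁻¹ * g)⁻¹ * c⁻¹ := by group
          _ = c * (z * (c⁻¹ * g)) * (c⁻¹ * g)⁻¹ * c⁻¹ := by rw [hdz]
          _ = c * z * c⁻¹ := by group
      rw [hgz, Subgroup.mem_centralizer_iff]
      intro h hh
      rw [Set.mem_singleton_iff] at hh
      rw [hh]
      have hca' : a * c⁻¹ = c⁻¹ * a := by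
        calc a * c⁻¹ = c⁻¹ * (c * a) * c⁻¹ := by group
          _ = c⁻¹ * (a * c) * c⁻¹ := by rw [hca]
          _ = c⁻¹ * a := by group
      calc a * (c * z * c⁻¹) = (a * c) * z * c⁻¹ := by group
        _ = c * (a * z) * c⁻¹ := by rw [hca]; group
        _ = c * z * (a * c⁻¹) := by rw [hza']; group
        _ = c * z * c⁻¹ * a := by rw [hca']; group
  have hDn : (M ⊓ Cen a).Normal := by
    constructor
    intro z hz g
    exact ⟨hMn.conj_mem z hz.1 g, hconj z hz.1 hz.2 g⟩
  have hyM : y ∈ M := (hM y).2 hy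
  have hdvd : (M ⊓ Cen a).relIndex M ∣ n := by
    rw [Subgroup.inf_relIndex_left]
    have h := e3_helper86_relIndex_dvd (Cen a) M
    rw [show (Cen a).index = n from ha] at h
    exact h
  have hDMn : ((M ⊓ Cen a).subgroupOf M).Normal := hDn.subgroupOf M
  have hpow : (⟨y, hyM⟩ : M) ^ ((M ⊓ Cen a).subgroupOf M).index ∈ (M ⊓ Cen a).subgroupOf M :=
    Subgroup.pow_index_mem _ _
  have hord : orderOf (⟨y, hyM⟩ : M) = orderOf y := Subgroup.orderOf_mk y hyM
  have hcop' : (((M ⊓ Cen a).subgroupOf M).index).Coprime (orderOf (⟨y, hyM⟩ : M)) := by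
    rw [hord]
    exact (Nat.Coprime.coprime_dvd_right hdvd hcop).symm
  obtain ⟨k, hk⟩ := exists_pow_eq_self_of_coprime hcop'
  have hmem : (⟨y, hyM⟩ : M) ∈ (M ⊓ Cen a).subgroupOf M := by
    rw [← hk]
    exact Subgroup.pow_mem _ hpow k
  have hya : y ∈ Cen a := (Subgroup.mem_subgroupOf.1 hmem).2
  exact (Subgroup.mem_centralizer_iff.1 hya) a (Set.mem_singleton a)

end Cfsg.Agent.Lib.Helper4.FC
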