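import Mathlib
import Cfsg.Agent.Lib.Helper81.G2Base

/-!
S4632 piece G2-STAB1: the stabiliser of the idempotent `e0` in `G₂(F)` acts by blocks
`(α, a, b, β) ↦ (α, M a, N b, β)` with `Mᵀ N = 1` and `det M = 1`.
-/

set_option autoImplicit false

namespace Cfsg.Agent.Lib.Helper86.G2

open Cfsg Cfsg.Lie Matrix Cfsg.Agent.Lib.Helper81.G2Base

universe u

/-- a block map respecting Zorn's product has `Mᵀ N = 1` and `det M = 1` -/
theorem h86_fL_mul {F : Type u} [Field F] (M N : Matrix (Fin 3) (Fin 3) F)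
    (h : ∀ x y : Fin 8 → F, fL M N (zornMul x y) = zornMul (fL M N x) (fL M N y)) :
    Mᵀ * N = 1 ∧ M.det = 1 := by
  have key : ∀ j k : Fin 3, M 0 j * N 0 k + M 1 j * N 1 k + M 2 j * N 2 k =
      if j = k then 1 else 0 := by
    intro j k
    have h1 := congrFun (h ![0, if j = 0 then 1 else 0, if j = 1 then 1 else 0,
      if j = 2 then 1 else 0, 0, 0, 0, 0] ![0, 0, 0, 0, if k = 0 then 1 else 0,
      if k = 1 then 1 else 0, if k = 2 then 1 else 0, 0]) 0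
    fin_cases j <;> fin_cases k <;> simp [fL, zornMul, dot3, cross3] at h1 ⊢ <;>
      exact h1.symm
  have hMN : Mᵀ * N = 1 := by
    ext j k
    rw [Matrix.mul_apply, Fin.sum_univ_three, Matrix.transpose_apply, Matrix.transpose_apply,
      Matrix.transpose_apply, key, Matrix.one_apply]
  refine ⟨hMN, ?_⟩
  have h4 := congrFun (h ![0, 1, 0, 0, 0, 0, 0, 0] ![0, 0, 1, 0, 0, 0, 0, 0]) 4
  have h5 := congrFun (h ![0, 1, 0, 0, 0, 0, 0, 0] ![0, 0, 1, 0, 0, 0, 0, 0]) 5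
  have h6 := congrFun (h ![0, 1, 0, 0, 0, 0, 0, 0] ![0, 0, 1, 0, 0, 0, 0, 0]) 6
  simp [fL, zornMul, dot3, cross3] at h4 h5 h6
  have h22 := key 2 2
  rw [if_pos rfl] at h22
  rw [Matrix.det_fin_three]
  rw [h4, h5, h6] at h22
  linear_combination h22

/-! ## Piece STAB1 -/
theorem stab_struct {F : Type u} [Field F] (g : Lie.G2 F) (hg : act g e0 = e0) :
    ∃ M N : Matrix (Fin 3) (Fin 3) F, (∀ x, act g x = fL M N x) ∧ Mᵀ * N = 1 ∧ M.det = 1 := by
  obtain ⟨A, hA⟩ : ∃ A : Matrix (Fin 8) (Fin 8) F,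
      A = ((g : GL (Fin 8) F) : Matrix (Fin 8) (Fin 8) F) := ⟨_, rfl⟩
  have hact : ∀ x, act g x = A *ᵥ x := fun x => by rw [hA]; rfl
  have hcol : ∀ k i, act g (Pi.single k 1) i = A i k := by
    intro k i
    rw [hact, Matrix.mulVec_single_one]
    rfl
  have L1 : ∀ z : Fin 8 → F, zornMul e0 z = ![z 0, z 1, z 2, z 3, 0, 0, 0, 0] := by
    intro z
    ext i
    fin_cases i <;> simp [zornMul, e0, dot3, cross3]
  have L2 : ∀ z : Fin 8 → F, zornMul z e0 = ![z 0, 0, 0, 0, z 4, z 5, z 6, 0] := by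
    intro z
    ext i
    fin_cases i <;> simp [zornMul, e0, dot3, cross3]
  have T1 : ∀ y, ![(act g y) 0, (act g y) 1, (act g y) 2, (act g y) 3, 0, 0, 0, 0] =
      act g ![y 0, y 1, y 2, y 3, 0, 0, 0, 0] := by
    intro y
    rw [← L1, ← L1, act_zornMul, hg]
  have T2 : ∀ y, ![(act g y) 0, 0, 0, 0, (act g y) 4, (act g y) 5, (act g y) 6, 0] =
      act g ![y 0, 0, 0, 0, y 4, y 5, y 6, 0] := by
    intro y
    rw [← L2, ← L2, act_zornMul, hg]
  have hC0 : ∀ i, A i 0 = e0 i := by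
    intro i
    rw [← hcol 0 i]
    have h1 : (Pi.single 0 1 : Fin 8 → F) = e0 := by
      ext i
      fin_cases i <;> simp [e0]
    rw [h1, hg]
  have hC7 : ∀ i, A i 7 = (Pi.single 7 1 : Fin 8 → F) i := by
    intro i
    rw [← hcol 7 i]
    have h1 : (one8 : Fin 8 → F) = e0 + Pi.single 7 1 := by
      ext i
      fin_cases i <;> simp [one8, e0]
    have h2 := act_one8 g
    rw [h1, act_add, hg] at h2
    rw [add_left_cancel h2]
  have hCA : ∀ j : Fin 8, (j = 1 ∨ j = 2 ∨ j = 3) →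
      A 0 j = 0 ∧ A 4 j = 0 ∧ A 5 j = 0 ∧ A 6 j = 0 ∧ A 7 j = 0 := by
    intro j hj
    have e1 : (![(Pi.single j 1 : Fin 8 → F) 0, (Pi.single j 1 : Fin 8 → F) 1,
        (Pi.single j 1 : Fin 8 → F) 2, (Pi.single j 1 : Fin 8 → F) 3, 0, 0, 0, 0] :
        Fin 8 → F) = Pi.single j 1 := by
      rcases hj with rfl | rfl | rfl <;> (ext i; fin_cases i <;> simp)
    have e2 : (![(Pi.single j 1 : Fin 8 → F) 0, 0, 0, 0, (Pi.single j 1 : Fin 8 → F) 4,
        (Pi.single j 1 : Fin 8 → F) 5, (Pi.single j 1 : Fin 8 → F) 6, 0] :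
        Fin 8 → F) = 0 := by
      rcases hj with rfl | rfl | rfl <;> (ext i; fin_cases i <;> simp)
    have h1 := T1 (Pi.single j 1)
    rw [e1] at h1
    have h2 := T2 (Pi.single j 1)
    rw [e2, act_zero] at h2
    refine ⟨?_, ?_, ?_, ?_, ?_⟩
    · rw [← hcol j 0]; exact congrFun h2 0
    · rw [← hcol j 4]; exact (congrFun h1 4).symm
    · rw [← hcol j 5]; exact (congrFun h1 5).symm
    · rw [← hcol j 6]; exact (congrFun h1 6).symm
    · rw [← hcol j 7]; exact (congrFun h1 7).symm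
  have hCB : ∀ j : Fin 8, (j = 4 ∨ j = 5 ∨ j = 6) →
      A 0 j = 0 ∧ A 1 j = 0 ∧ A 2 j = 0 ∧ A 3 j = 0 ∧ A 7 j = 0 := by
    intro j hj
    have e1 : (![(Pi.single j 1 : Fin 8 → F) 0, (Pi.single j 1 : Fin 8 → F) 1,
        (Pi.single j 1 : Fin 8 → F) 2, (Pi.single j 1 : Fin 8 → F) 3, 0, 0, 0, 0] :
        Fin 8 → F) = 0 := by
      rcases hj with rfl | rfl | rfl <;> (ext i; fin_cases i <;> simp)
    have e2 : (![(Pi.single j 1 : Fin 8 → F) 0, 0, 0, 0, (Pi.single j 1 : Fin 8 → F) 4,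
        (Pi.single j 1 : Fin 8 → F) 5, (Pi.single j 1 : Fin 8 → F) 6, 0] :
        Fin 8 → F) = Pi.single j 1 := by
      rcases hj with rfl | rfl | rfl <;> (ext i; fin_cases i <;> simp)
    have h1 := T1 (Pi.single j 1)
    rw [e1, act_zero] at h1
    have h2 := T2 (Pi.single j 1)
    rw [e2] at h2
    refine ⟨?_, ?_, ?_, ?_, ?_⟩
    · rw [← hcol j 0]; exact congrFun h1 0
    · rw [← hcol j 1]; exact (congrFun h2 1).symm
    · rw [← hcol j 2]; exact (congrFun h2 2).symm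
    · rw [← hcol j 3]; exact (congrFun h2 3).symm
    · rw [← hcol j 7]; exact (congrFun h2 7).symm
  obtain ⟨a01, a41, a51, a61, a71⟩ := hCA 1 (Or.inl rfl)
  obtain ⟨a02, a42, a52, a62, a72⟩ := hCA 2 (Or.inr (Or.inl rfl))
  obtain ⟨a03, a43, a53, a63, a73⟩ := hCA 3 (Or.inr (Or.inr rfl))
  obtain ⟨a04, a14, a24, a34, a74⟩ := hCB 4 (Or.inl rfl)
  obtain ⟨a05, a15, a25, a35, a75⟩ := hCB 5 (Or.inr (Or.inl rfl))
  obtain ⟨a06, a16, a26, a36, a76⟩ := hCB 6 (Or.inr (Or.inr rfl))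
  have hfL : ∀ x, act g x = fL !![A 1 1, A 1 2, A 1 3; A 2 1, A 2 2, A 2 3; A 3 1, A 3 2, A 3 3]
      !![A 4 4, A 4 5, A 4 6; A 5 4, A 5 5, A 5 6; A 6 4, A 6 5, A 6 6] x := by
    intro x
    rw [hact]
    ext i
    fin_cases i <;>
      simp [Matrix.mulVec, dotProduct, Fin.sum_univ_eight, fL, hC0, hC7, e0, a01, a41, a51, a61,
        a71, a02, a42, a52, a62, a72, a03, a43, a53, a63, a73, a04, a14, a24, a34, a74, a05, a15,
        a25, a35, a75, a06, a16, a26, a36, a76]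
  refine ⟨_, _, hfL, ?_⟩
  apply h86_fL_mul
  intro x y
  rw [← hfL, ← hfL, ← hfL, act_zornMul]

end Cfsg.Agent.Lib.Helper86.G2
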