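import Mathlib

/-!
# S3786, piece ALP (helper86 project HH): a relative Alperin-type lemma

`P` a finite `p`-group, `p` odd, `N ⊴ P`, `E` maximal among the normal (in `P`) elementary abelian
subgroups contained in `N`. Then every element of order dividing `p` of `N` centralizing `E` lies
in `E`.

Proof. Let `𝒰 = {u ∈ N | u^p = 1, u centralizes E, u ∉ E}` and suppose `𝒰 ≠ ∅`. For `u ∈ 𝒰`,
`B_u = E ⟨u⟩` is elementary abelian, `≤ N`, `|B_u : E| = p`, and not normal in `P` (maximality).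
Choose `u ∈ 𝒰` with `|N_P(B_u)|` maximal, `H = N_P(B_u) < P`, `K = N_P(H) > H`.
Let `𝔅 = {B_v | v ∈ 𝒰, N_P(B_v) = H}`. `K` acts on `𝔅` by conjugation (`𝒰` is `P`-invariant) and
the stabilizer of each member is `H`, so `p ∣ |𝔅|`. Each `B ∈ 𝔅` is a normal subgroup of `H`
(`B ≤ N_P(B) = H`). Let `F = ⟨B | B ∈ 𝔅⟩ ≤ H`. Distinct `B, B' ∈ 𝔅` satisfy
`[B, B'] ≤ B ∩ B' = E`, and `E ≤ Z(F)`; so `F/E` is abelian, `F` has class `≤ 2` with
`[F, F] ≤ E` of exponent `p`, hence (`p` odd) `(a b)^p = a^p b^p` on `F` and `F` has exponent `p`;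
`F/E` is elementary abelian. `H` normalizes each `B ∈ 𝔅`, so it acts trivially on each `B/E`
(a `p`-group acting on a group of order `p`), hence trivially on `F/E`. Thus for every
`v ∈ F ∖ E`: `v ∈ 𝒰` and `H ≤ N_P(E ⟨v⟩)`, so `N_P(B_v) = H` by maximality: `B_v ∈ 𝔅`. So `𝔅` is
the set of all subgroups `E ⟨v⟩`, `v ∈ F ∖ E`, i.e. the subgroups of order `p` of `F/E ≅ (ℤ/p)^d`,
`d ≥ 1`: `|𝔅| = (p^d - 1)/(p - 1) ≡ 1 (mod p)`. Contradiction.

Formalized variant (same idea, shorter): work in `P ⧸ E`. Among the `v ∈ 𝒰` choose one with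
`|C_{P/E}(vE)|` maximal and put `H = C_{P/E}(vE)`. If `H = P/E` then `E ⟨v⟩` is normal, a
contradiction; so `H < K = N_{P/E}(H)`. The set `F` of images of elements of `N` of order
dividing `p` centralizing `E` which lie in `Z(H)` is a subgroup (class-two power formula, `p`
odd), nontrivial and normalized by `K`; a nontrivial element of `F` fixed by the `p`-group `K`
has a centralizer containing `K > H`, against the choice of `v`.
-/

set_option autoImplicit false

namespace Cfsg.Agent.Lib.Helper86.HH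

universe u

/-- class-2 power formula -/
theorem alp_mul_pow {G : Type u} [Group G] (a b z : G) (hz : b * a = a * b * z)
    (hza : z * a = a * z) (hzb : z * b = b * z) (n : ℕ) :
    (a * b) ^ n = a ^ n * b ^ n * z ^ (n.choose 2) := by
  have hzbm : ∀ m : ℕ, z * b ^ m = b ^ m * z := fun m =>
    (Commute.pow_right (show Commute z b from hzb) m).eq
  have hzmb : ∀ m : ℕ, z ^ m * b = b * z ^ m := fun m =>
    (Commute.pow_left (show Commute z b from hzb) m).eq
  have h1 : ∀ m : ℕ, b ^ m * a = a * b ^ m * z ^ m := by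
    intro m
    induction m with
    | zero => simp
    | succ m ih =>
      calc b ^ (m + 1) * a = b * (b ^ m * a) := by rw [pow_succ', mul_assoc]
        _ = b * (a * b ^ m * z ^ m) := by rw [ih]
        _ = (b * a) * b ^ m * z ^ m := by simp only [mul_assoc]
        _ = a * b * z * b ^ m * z ^ m := by rw [hz]
        _ = a * b * (z * b ^ m) * z ^ m := by simp only [mul_assoc]
        _ = a * b * (b ^ m * z) * z ^ m := by rw [hzbm]
        _ = a * b ^ (m + 1) * z ^ (m + 1) := by rw [pow_succ', pow_succ']; simp only [mul_assoc]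
  induction n with
  | zero => simp
  | succ n ih =>
    have hch : (n + 1).choose 2 = n + n.choose 2 := by
      rw [show (2 : ℕ) = 1 + 1 from rfl, Nat.choose_succ_succ, Nat.choose_one_right]
    calc (a * b) ^ (n + 1) = (a * b) ^ n * (a * b) := pow_succ _ _
      _ = a ^ n * b ^ n * z ^ (n.choose 2) * (a * b) := by rw [ih]
      _ = a ^ n * (b ^ n * a) * (z ^ (n.choose 2) * b) := by
          have : z ^ (n.choose 2) * a = a * z ^ (n.choose 2) :=
            (Commute.pow_left (show Commute z a from hza) _).eq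
          simp only [mul_assoc]
          rw [← mul_assoc (z ^ (n.choose 2)) a b, this]
          simp only [mul_assoc]
      _ = a ^ n * (a * b ^ n * z ^ n) * (b * z ^ (n.choose 2)) := by rw [h1, hzmb]
      _ = a ^ (n + 1) * b ^ n * (z ^ n * b) * z ^ (n.choose 2) := by
          rw [pow_succ]; simp only [mul_assoc]
      _ = a ^ (n + 1) * b ^ n * (b * z ^ n) * z ^ (n.choose 2) := by rw [hzmb]
      _ = a ^ (n + 1) * b ^ (n + 1) * z ^ ((n + 1).choose 2) := by
          rw [hch, pow_add z, pow_succ b]; simp only [mul_assoc]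

/-- the candidate set -/
def alp_T {P : Type u} [Group P] (p : ℕ) (N E : Subgroup P) (x : P) : Prop :=
  x ∈ N ∧ (∀ a ∈ E, x * a = a * x) ∧ x ^ p = 1

theorem alp_T_one {P : Type u} [Group P] (p : ℕ) (N E : Subgroup P) : alp_T p N E 1 :=
  ⟨N.one_mem, fun a _ => by simp, one_pow p⟩

theorem alp_T_inv {P : Type u} [Group P] {p : ℕ} {N E : Subgroup P} {x : P}
    (hx : alp_T p N E x) : alp_T p N E x⁻¹ := by
  obtain ⟨h1, h2, h3⟩ := hx
  refine ⟨N.inv_mem h1, fun a ha => ?_, by rw [inv_pow, h3, inv_one]⟩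
  have := h2 a ha
  rw [inv_mul_eq_iff_eq_mul, ← mul_assoc, this, mul_assoc, mul_inv_cancel, mul_one]

theorem alp_T_conj {P : Type u} [Group P] {p : ℕ} {N E : Subgroup P} [N.Normal] [E.Normal]
    {x : P} (g : P) (hx : alp_T p N E x) : alp_T p N E (g * x * g⁻¹) := by
  obtain ⟨h1, h2, h3⟩ := hx
  refine ⟨‹N.Normal›.conj_mem x h1 g, fun a ha => ?_, by rw [conj_pow, h3]; simp⟩
  have h4 : g⁻¹ * a * g ∈ E := by
    have := ‹E.Normal›.conj_mem a ha g⁻¹
    rwa [inv_inv] at this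
  have h5 := h2 _ h4
  calc g * x * g⁻¹ * a = g * (x * (g⁻¹ * a * g)) * g⁻¹ := by group
    _ = g * ((g⁻¹ * a * g) * x) * g⁻¹ := by rw [h5]
    _ = a * (g * x * g⁻¹) := by group

theorem alp_T_mul {P : Type u} [Group P] {p : ℕ} [Fact p.Prime] (hp2 : p ≠ 2)
    {N E : Subgroup P} (hEp : ∀ a ∈ E, a ^ p = 1) {x y : P}
    (hx : alp_T p N E x) (hy : alp_T p N E y) (hz : (x * y)⁻¹ * (y * x) ∈ E) :
    alp_T p N E (x * y) := by
  obtain ⟨h1, h2, h3⟩ := hx
  obtain ⟨k1, k2, k3⟩ := hy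
  have hpp : p.Prime := Fact.out
  refine ⟨N.mul_mem h1 k1, fun a ha => ?_, ?_⟩
  · rw [mul_assoc, k2 a ha, ← mul_assoc, h2 a ha, mul_assoc]
  · have hf := alp_mul_pow x y ((x * y)⁻¹ * (y * x)) (by group) (h2 _ hz).symm (k2 _ hz).symm p
    rw [hf, h3, k3, one_mul, one_mul]
    have hd : p ∣ p.choose 2 := hpp.dvd_choose_self (by norm_num) (by
      have := hpp.two_le; omega)
    obtain ⟨c, hc⟩ := hd
    rw [hc, pow_mul, hEp _ hz, one_pow]

/-- an element of the candidate set which is central modulo `E` lies in `E`. -/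
theorem alp_central {P : Type u} [Group P] {p : ℕ}
    {N : Subgroup P} [N.Normal] {E : Subgroup P} [E.Normal] (hEN : E ≤ N)
    (hEab : ∀ a ∈ E, ∀ b ∈ E, a * b = b * a) (hEp : ∀ a ∈ E, a ^ p = 1)
    (hmax : ∀ E' : Subgroup P, E'.Normal → E' ≤ N → (∀ a ∈ E', ∀ b ∈ E', a * b = b * a) →
      (∀ a ∈ E', a ^ p = 1) → E ≤ E' → E' = E)
    (x : P) (hx : alp_T p N E x) (hc : ∀ g : P, g * x * g⁻¹ * x⁻¹ ∈ E) : x ∈ E := by
  obtain ⟨h1, h2, h3⟩ := hx
  have hmem : ∀ y : P, y ∈ E ⊔ Subgroup.zpowers x ↔ ∃ a ∈ E, ∃ k : ℤ, y = a * x ^ k := by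
    intro y
    rw [← SetLike.mem_coe, Subgroup.normal_mul, Set.mem_mul]
    constructor
    · rintro ⟨a, ha, b, hb, rfl⟩
      obtain ⟨k, rfl⟩ := Subgroup.mem_zpowers_iff.mp hb
      exact ⟨a, ha, k, rfl⟩
    · rintro ⟨a, ha, k, rfl⟩
      exact ⟨a, ha, x ^ k, Subgroup.zpow_mem_zpowers x k, rfl⟩
  have hxa : ∀ a ∈ E, Commute x a := fun a ha => h2 a ha
  have hxE' : x ∈ E ⊔ Subgroup.zpowers x :=
    (le_sup_right : Subgroup.zpowers x ≤ E ⊔ Subgroup.zpowers x) (Subgroup.mem_zpowers x)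
  have hEE' : E ≤ E ⊔ Subgroup.zpowers x := le_sup_left
  have hnorm : (E ⊔ Subgroup.zpowers x).Normal := by
    constructor
    intro y hy g
    obtain ⟨a, ha, k, rfl⟩ := (hmem y).mp hy
    have e1 : g * (a * x ^ k) * g⁻¹ = (g * a * g⁻¹) * (g * x * g⁻¹) ^ k := by
      rw [conj_zpow]; group
    rw [e1]
    refine Subgroup.mul_mem _ (hEE' (‹E.Normal›.conj_mem a ha g)) (Subgroup.zpow_mem _ ?_ k)
    have e2 : g * x * g⁻¹ = (g * x * g⁻¹ * x⁻¹) * x := by group
    rw [e2]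
    exact Subgroup.mul_mem _ (hEE' (hc g)) hxE'
  have hle : E ⊔ Subgroup.zpowers x ≤ N := sup_le hEN (by
    rw [Subgroup.zpowers_le]; exact h1)
  have hab : ∀ a ∈ E ⊔ Subgroup.zpowers x, ∀ b ∈ E ⊔ Subgroup.zpowers x, a * b = b * a := by
    intro y hy y' hy'
    obtain ⟨a, ha, k, rfl⟩ := (hmem y).mp hy
    obtain ⟨b, hb, l, rfl⟩ := (hmem y').mp hy'
    have c1 : Commute a b := hEab a ha b hb
    have c2 : Commute a (x ^ l) := ((hxa a ha).zpow_left l).symm
    have c3 : Commute (x ^ k) b := (hxa b hb).zpow_left k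
    have c4 : Commute (x ^ k) (x ^ l) := (Commute.refl x).zpow_zpow k l
    exact ((c1.mul_right c2).mul_left (c3.mul_right c4)).eq
  have hexp : ∀ a ∈ E ⊔ Subgroup.zpowers x, a ^ p = 1 := by
    intro y hy
    obtain ⟨a, ha, k, rfl⟩ := (hmem y).mp hy
    have c2 : Commute a (x ^ k) := ((hxa a ha).zpow_left k).symm
    rw [c2.mul_pow, hEp a ha, one_mul, ← zpow_natCast, ← zpow_mul, mul_comm, zpow_mul,
      zpow_natCast, h3, one_zpow]
  have := hmax _ hnorm hle hab hexp hEE'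
  rw [← this]
  exact hxE'

/-- a `p`-group `K` normalizing a nontrivial subgroup `M` of a finite `p`-group centralizes a
nontrivial element of `M`. -/
theorem alp_fix {G : Type u} [Group G] [Finite G] {p : ℕ} [Fact p.Prime] (hG : IsPGroup p G)
    (K M : Subgroup G) (hnorm : ∀ k ∈ K, ∀ m ∈ M, k * m * k⁻¹ ∈ M) (hM : M ≠ ⊥) :
    ∃ x ∈ M, x ≠ 1 ∧ ∀ k ∈ K, k * x = x * k := by
  classical
  let _ : MulAction K M :=
    { smul := fun k m => ⟨k.1 * m.1 * k.1⁻¹, hnorm k.1 k.2 m.1 m.2⟩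
      one_smul := fun m => by
        apply Subtype.ext
        show (1 : G) * m.1 * (1 : G)⁻¹ = m.1
        simp
      mul_smul := fun a b m => by
        apply Subtype.ext
        show (a.1 * b.1) * m.1 * (a.1 * b.1)⁻¹ = a.1 * (b.1 * m.1 * b.1⁻¹) * a.1⁻¹
        group }
  have hK : IsPGroup p K := hG.to_subgroup K
  have hcard : p ∣ Nat.card M := by
    obtain ⟨n, hn⟩ := IsPGroup.iff_card.mp (hG.to_subgroup M)
    have hn0 : n ≠ 0 := by
      rintro rfl
      apply hM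
      rw [pow_zero] at hn
      exact Subgroup.card_eq_one.mp hn
    rw [hn]; exact dvd_pow_self p hn0
  have h1 : (1 : M) ∈ MulAction.fixedPoints K M := by
    intro k
    apply Subtype.ext
    show k.1 * (1 : G) * k.1⁻¹ = 1
    simp
  obtain ⟨b, hb, hb1⟩ := hK.exists_fixed_point_of_prime_dvd_card_of_fixed_point M hcard h1
  refine ⟨b.1, b.2, fun h => hb1 (Subtype.ext h.symm), fun k hk => ?_⟩
  have h2 : k * b.1 * k⁻¹ = b.1 := congrArg Subtype.val (hb ⟨k, hk⟩)
  calc k * b.1 = (k * b.1 * k⁻¹) * k := by group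
    _ = b.1 * k := by rw [h2]

theorem alperin_rel {P : Type u} [Group P] [Finite P] {p : ℕ} [Fact p.Prime] (hp2 : p ≠ 2)
    (hP : IsPGroup p P) (N : Subgroup P) [N.Normal] (E : Subgroup P) [E.Normal] (hEN : E ≤ N)
    (hEab : ∀ a ∈ E, ∀ b ∈ E, a * b = b * a) (hEp : ∀ a ∈ E, a ^ p = 1)
    (hmax : ∀ E' : Subgroup P, E'.Normal → E' ≤ N → (∀ a ∈ E', ∀ b ∈ E', a * b = b * a) →
      (∀ a ∈ E', a ^ p = 1) → E ≤ E' → E' = E)
    (u : P) (huN : u ∈ N) (hup : u ^ p = 1) (huE : ∀ a ∈ E, u * a = a * u) : u ∈ E := by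
  classical
  by_contra hu
  have hπ1 : ∀ x : P, QuotientGroup.mk' E x = 1 ↔ x ∈ E := fun x => QuotientGroup.eq_one_iff x
  have hπs : Function.Surjective (QuotientGroup.mk' E) := QuotientGroup.mk'_surjective E
  have hQ : IsPGroup p (P ⧸ E) := hP.to_quotient E
  have : Group.IsNilpotent (P ⧸ E) := hQ.isNilpotent
  have : Nonempty {x : P // alp_T p N E x ∧ x ∉ E} := ⟨⟨u, ⟨huN, huE, hup⟩, hu⟩⟩
  obtain ⟨⟨v0, hv0T, hv0E⟩, hv⟩ := Finite.exists_max (fun x : {x : P // alp_T p N E x ∧ x ∉ E} =>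
    Nat.card (Subgroup.centralizer ({QuotientGroup.mk' E x.1} : Set (P ⧸ E))))
  have hv' : ∀ w : P, alp_T p N E w → w ∉ E →
      Nat.card (Subgroup.centralizer ({QuotientGroup.mk' E w} : Set (P ⧸ E))) ≤
      Nat.card (Subgroup.centralizer ({QuotientGroup.mk' E v0} : Set (P ⧸ E))) :=
    fun w hw hwE => hv ⟨w, hw, hwE⟩
  clear hv
  generalize hπ : QuotientGroup.mk' E = π at *
  set H : Subgroup (P ⧸ E) := Subgroup.centralizer ({π v0} : Set (P ⧸ E)) with hH
  have hHmem : ∀ h : P ⧸ E, h ∈ H ↔ h * π v0 = π v0 * h := by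
    intro h
    rw [hH, Subgroup.mem_centralizer_iff]
    constructor
    · intro hh; exact (hh (π v0) rfl).symm
    · intro hh y hy; rw [Set.mem_singleton_iff.mp hy]; exact hh.symm
  have hHtop : H ≠ ⊤ := by
    intro htop
    apply hv0E
    apply alp_central hEN hEab hEp hmax v0 hv0T
    intro g
    rw [← hπ1]
    have h1 : π g ∈ H := by rw [htop]; trivial
    have h2 := (hHmem _).mp h1
    simp only [map_mul, map_inv]
    rw [h2]; group
  have hlt : H < Subgroup.normalizer (H : Set (P ⧸ E)) :=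
    Group.normalizerCondition_of_isNilpotent H (lt_top_iff_ne_top.mpr hHtop)
  let F : Subgroup (P ⧸ E) :=
    { carrier := {q | q ∈ H ∧ (∀ h ∈ H, h * q = q * h) ∧ ∃ w, alp_T p N E w ∧ π w = q}
      one_mem' := ⟨H.one_mem, fun h _ => by simp, 1, alp_T_one p N E, map_one π⟩
      mul_mem' := by
        rintro a b ⟨haH, hac, w, hw, rfl⟩ ⟨hbH, hbc, w', hw', rfl⟩
        refine ⟨H.mul_mem haH hbH, ?_, w * w', ?_, map_mul π w w'⟩
        · intro h hh; rw [← mul_assoc, hac h hh, mul_assoc, hbc h hh, mul_assoc]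
        · apply alp_T_mul hp2 hEp hw hw'
          rw [← hπ1]
          simp only [map_mul, map_inv]
          rw [hac (π w') hbH]; group
      inv_mem' := by
        rintro a ⟨haH, hac, w, hw, rfl⟩
        refine ⟨H.inv_mem haH, ?_, w⁻¹, alp_T_inv hw, map_inv π w⟩
        intro h hh
        have := hac h hh
        rw [eq_inv_mul_iff_mul_eq, ← mul_assoc, ← this, mul_assoc, mul_inv_cancel, mul_one] }
  have hFmem : ∀ q : P ⧸ E, q ∈ F ↔
      q ∈ H ∧ (∀ h ∈ H, h * q = q * h) ∧ ∃ w, alp_T p N E w ∧ π w = q := fun q => Iff.rfl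
  have hFK : ∀ k ∈ Subgroup.normalizer (H : Set (P ⧸ E)), ∀ q ∈ F, k * q * k⁻¹ ∈ F := by
    intro k hk q hq
    obtain ⟨hqH, hqc, w, hw, rfl⟩ := (hFmem q).mp hq
    obtain ⟨g, rfl⟩ := hπs k
    have hk' := Subgroup.mem_normalizer_iff.mp hk
    rw [hFmem]
    refine ⟨(hk' _).mp hqH, ?_, g * w * g⁻¹, alp_T_conj g hw, by simp⟩
    intro h hh
    have h1 : (π g)⁻¹ * h * π g ∈ H := by
      rw [hk' ((π g)⁻¹ * h * π g)]
      have e : π g * ((π g)⁻¹ * h * π g) * (π g)⁻¹ = h := by group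
      rw [e]; exact hh
    have h2 := hqc _ h1
    calc h * (π g * π w * (π g)⁻¹) = π g * (((π g)⁻¹ * h * π g) * π w) * (π g)⁻¹ := by group
      _ = π g * (π w * ((π g)⁻¹ * h * π g)) * (π g)⁻¹ := by rw [h2]
      _ = π g * π w * (π g)⁻¹ * h := by group
  have hv0F : π v0 ∈ F := by
    rw [hFmem]
    exact ⟨(hHmem _).mpr rfl, fun h hh => (hHmem h).mp hh, v0, hv0T, rfl⟩
  have hFbot : F ≠ ⊥ := by
    intro hbot
    rw [hbot, Subgroup.mem_bot, hπ1] at hv0F
    exact hv0E hv0F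
  obtain ⟨q, hqF, hq1, hqK⟩ := alp_fix hQ (Subgroup.normalizer (H : Set (P ⧸ E))) F hFK hFbot
  obtain ⟨hqH, hqc, w, hw, rfl⟩ := (hFmem q).mp hqF
  have hwE : w ∉ E := fun h => hq1 ((hπ1 w).mpr h)
  have hle : Subgroup.normalizer (H : Set (P ⧸ E)) ≤
      Subgroup.centralizer ({π w} : Set (P ⧸ E)) := by
    intro k hk
    rw [Subgroup.mem_centralizer_iff]
    intro y hy
    rw [Set.mem_singleton_iff.mp hy]
    exact (hqK k hk).symm
  have hc1 := hv' w hw hwE
  have hc2 := Subgroup.card_le_of_le hle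
  have hc3 : Nat.card (Subgroup.normalizer (H : Set (P ⧸ E))) ≤ Nat.card H := le_trans hc2 hc1
  exact (ne_of_lt hlt) (Subgroup.eq_of_le_of_card_ge hlt.le hc3)


end Cfsg.Agent.Lib.Helper86.HH
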