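import Mathlib
import Cfsg.Agent.Lib.Helper86.HHDec

/-!
# S3786, piece ORB (helper86 project HH): the orbit argument

`T` a finite `2`-group in which commutators and squares are central (so `W = T ⧸ Z(T)` is an
elementary abelian `2`-group and `β (aZ, bZ) = a b a⁻¹ b⁻¹ ∈ Z(T)` is biadditive and alternating).
`γ` an automorphism with `γ ^ p ^ n = 1` (`p` odd) such that `γ₀ = γ ^ p ^ (n-1)` fixes pointwise
every commutative `γ`-invariant subgroup of `T`. `E` an elementary abelian `p`-group of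
automorphisms of `T`, trivial on `Z(T)` and normalized by `γ`. Then `γ₀` centralizes `E`.

Proof. Suppose `e ∈ E` and `e' = γ₀ e γ₀⁻¹ e⁻¹ ≠ 1` (`e' ∈ E`). `e'` is trivial on `Z(T)` and has
odd order, so it acts nontrivially on `W` (if `e' t = t z` with `z` central for all `t`, then
`e'^p t = t z^p`, so `z^p = 1`, `z = 1`). `dec_hyperplane` (for `E` acting on `W`) gives `B ≤ E`
with `E = B ⟨e'⟩`, `e' ∉ B`, and `w ≠ 1` in `W` fixed by `B` with trivial norm under every `a ∉ B`.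
* `γ₀ B γ₀⁻¹ ≠ B`: otherwise `γ₀ e' γ₀⁻¹ = e'^j b` and, `γ₀` having `p`-power order, `j = 1`
  mod `p` (the map `j ↦` is an automorphism of `E/B ≅ Z/p` of `p`-power order), so `γ₀` centralizes
  `E/B` and `e' = [γ₀, e] ∈ B`.
* hence the subgroups `B_i = γ^i B γ^(-i)`, `i < p ^ n`, are pairwise distinct (if `B_i = B_j`,
  `i < j`, then `γ^(j-i)` normalizes `B` and so does `γ₀`, a power of it... (the subgroup of
  `ℤ/p^n` fixing `B` is nonzero, so it contains `p^(n-1)`)).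
* `w_i = γ^i w` is fixed by `B_i` and has trivial norm under every `a ∈ E`, `a ∉ B_i`.
* if `u` is fixed by `B₁` and `v` has trivial norm under `a ∈ B₁`, `a ∉ B₂` (exists when
  `B₁ ≠ B₂`, both of index `p`), then `v = (a v') v'⁻¹` for some `v'` (`v' = g(a) v` with
  `g(X) = X + X³ + ⋯ + X^(p-2)`, as `(X - 1) g(X) = 1 + X + ⋯ + X^(p-1) + 1` over `𝔽₂`), so
  `β(u, v) = β(a u, a v') β(u, v')⁻¹ = a(β(u, v')) β(u, v')⁻¹ = 1` (`a` is trivial on `Z(T)`).
  So lifts `t_i ∈ T` of the `w_i` pairwise commute.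
* `A = ⟨Z(T), t_i (i < p^n)⟩` is commutative and `γ`-invariant (`γ t_i ∈ t_{i+1} Z(T)`,
  `γ^(p^n) = 1`), so `γ₀` fixes `t_0`: `γ₀ w = w`. But `γ₀ w = w_{p^(n-1)}` has trivial norm under
  `a ∈ B`, `a ∉ B_{p^(n-1)}`, and `a w = w`: so `w^p = 1`, `w = 1`. Contradiction.
-/

set_option autoImplicit false
set_option linter.style.haveILetI false

namespace Cfsg.Agent.Lib.Helper86.HH

universe u

section OrbGen

variable {G : Type u} [Group G]

/-- elements conjugating a subgroup into itself, as a submonoid -/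
def orbPres (B : Subgroup G) : Submonoid G where
  carrier := {g | ∀ b ∈ B, g * b * g⁻¹ ∈ B}
  one_mem' := by
    intro b hb
    simpa using hb
  mul_mem' := by
    intro g h hg hh b hb
    have h1 := hg _ (hh b hb)
    have e : g * h * b * (g * h)⁻¹ = g * (h * b * h⁻¹) * g⁻¹ := by group
    show g * h * b * (g * h)⁻¹ ∈ B
    rw [e]
    exact h1

theorem orb_pow_mem (M : Submonoid G) (γ : G) (p n : ℕ) [Fact p.Prime] (hγ : γ ^ p ^ n = 1)
    (d : ℕ) (hd0 : 0 < d) (hd : d < p ^ n) (h : γ ^ d ∈ M) : γ ^ p ^ (n - 1) ∈ M := by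
  have hp : p.Prime := Fact.out
  have hg : Nat.gcd d (p ^ n) < p ^ n :=
    lt_of_le_of_lt (Nat.le_of_dvd hd0 (Nat.gcd_dvd_left _ _)) hd
  obtain ⟨m, -, hm⟩ := Nat.exists_mul_mod_eq_gcd hg
  obtain ⟨i, hi, hgi⟩ := (Nat.dvd_prime_pow hp).mp (Nat.gcd_dvd_right d (p ^ n))
  have hin : i < n := by
    by_contra hge
    push Not at hge
    have hie : i = n := le_antisymm hi hge
    rw [hgi, hie] at hg
    exact lt_irrefl _ hg
  have e1 : (γ ^ d) ^ m = γ ^ p ^ i := by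
    rw [← pow_mul, pow_eq_pow_mod (d * m) hγ, hm, hgi]
  have e2 : γ ^ p ^ (n - 1) = ((γ ^ d) ^ m) ^ p ^ (n - 1 - i) := by
    rw [e1, ← pow_mul, ← pow_add]
    congr 2
    omega
  rw [e2]
  exact M.pow_mem (M.pow_mem h m) _

/-- a `p`-power-order automorphism of an elementary abelian `p`-group preserving a subgroup
`B` with `A = B ⟨e'⟩` acts trivially on `A / B` -/
theorem orb_idx {A : Type u} [CommGroup A] {p : ℕ} [Fact p.Prime] (hAp : ∀ a : A, a ^ p = 1)
    (B : Subgroup A) (e' : A) (hcov : ∀ a : A, ∃ k : ℕ, a * e' ^ k ∈ B) (c : A →* A)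
    (hcB : ∀ b ∈ B, c b ∈ B) (hcp : ∀ a, c^[p] a = a) : ∀ a : A, c a * a⁻¹ ∈ B := by
  have hp : p.Prime := Fact.out
  obtain ⟨m, hm⟩ := hcov (c e')
  obtain ⟨i, hi⟩ : ∃ i : ℕ, i = m * (p - 1) := ⟨_, rfl⟩
  have hie : (e' ^ i)⁻¹ = e' ^ m := by
    rw [inv_eq_iff_eq_inv, eq_inv_iff_mul_eq_one, ← pow_add]
    have : i + m = p * m := by
      rw [hi]
      have := hp.pos
      obtain ⟨q, rfl⟩ : ∃ q, p = q + 1 := ⟨p - 1, by omega⟩
      simp
      ring
    rw [this, pow_mul, hAp, one_pow]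
  have h1 : c e' * (e' ^ i)⁻¹ ∈ B := by rw [hie]; exact hm
  have hj : ∀ j : ℕ, c^[j] e' * (e' ^ (i ^ j))⁻¹ ∈ B := by
    intro j
    induction j with
    | zero => simp
    | succ j ih =>
      rw [Function.iterate_succ_apply']
      have e : c (c^[j] e') * (e' ^ (i ^ (j + 1)))⁻¹
          = c (c^[j] e' * (e' ^ (i ^ j))⁻¹) * (c e' * (e' ^ i)⁻¹) ^ (i ^ j) := by
        rw [map_mul, map_inv, map_pow, mul_pow (c e') _ _, inv_pow (e' ^ i), ← pow_mul,
          ← pow_succ', mul_assoc, inv_mul_cancel_left]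
      rw [e]
      exact B.mul_mem (hcB _ ih) (B.pow_mem h1 _)
  have hp' := hj p
  rw [hcp] at hp'
  have hip : e' ^ (i ^ p) = e' ^ i := by
    rw [pow_eq_pow_mod (i ^ p) (hAp e'), pow_eq_pow_mod i (hAp e')]
    congr 1
    exact (ZMod.natCast_eq_natCast_iff' (i ^ p) i p).mp (by push_cast; exact ZMod.pow_card _)
  rw [hip] at hp'
  have h2 : c e' * e'⁻¹ ∈ B := by
    have h3 := B.mul_mem h1 (B.inv_mem hp')
    have e : c e' * (e' ^ i)⁻¹ * (e' * (e' ^ i)⁻¹)⁻¹ = c e' * e'⁻¹ := by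
      rw [mul_inv_rev, inv_inv, mul_assoc, inv_mul_cancel_left]
    rwa [e] at h3
  intro a
  obtain ⟨k, hk⟩ := hcov a
  have h4 : c (a * e' ^ k) * (a * e' ^ k)⁻¹ * ((c e' * e'⁻¹) ^ k)⁻¹ ∈ B :=
    B.mul_mem (B.mul_mem (hcB _ hk) (B.inv_mem hk)) (B.inv_mem (B.pow_mem h2 k))
  have e : c a * a⁻¹ = c (a * e' ^ k) * (a * e' ^ k)⁻¹ * ((c e' * e'⁻¹) ^ k)⁻¹ := by
    rw [map_mul, map_pow, mul_pow, inv_pow]
    apply Additive.ofMul.injective
    simp only [ofMul_mul, ofMul_inv]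
    abel
  rw [e]
  exact h4

end OrbGen

section OrbT

variable {T : Type u} [Group T]

/-- the automorphism of `T ⧸ Z(T)` induced by an automorphism of `T` -/
noncomputable def orbInd : MulAut T →* MulAut (T ⧸ Subgroup.center T) where
  toFun σ := QuotientGroup.congr (Subgroup.center T) (Subgroup.center T) σ
    ((Subgroup.characteristic_iff_map_eq.mp inferInstance) σ)
  map_one' := by
    ext x
    induction x using QuotientGroup.induction_on with
    | H a => rfl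
  map_mul' σ τ := by
    ext x
    induction x using QuotientGroup.induction_on with
    | H a => rfl

theorem orbInd_mk (σ : MulAut T) (t : T) :
    orbInd σ (QuotientGroup.mk t : T ⧸ Subgroup.center T) = QuotientGroup.mk (σ t) := rfl

/-- commutative group structure on `T ⧸ Z(T)` when commutators are central -/
@[reducible] def orbComm
    (hcl : ∀ a b t : T, (a * b * a⁻¹ * b⁻¹) * t = t * (a * b * a⁻¹ * b⁻¹)) :
    CommGroup (T ⧸ Subgroup.center T) :=
  { (inferInstance : Group (T ⧸ Subgroup.center T)) with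
    mul_comm := by
      intro x y
      induction x using QuotientGroup.induction_on with
      | H a =>
      induction y using QuotientGroup.induction_on with
      | H b =>
      rw [← QuotientGroup.mk_mul, ← QuotientGroup.mk_mul, QuotientGroup.eq]
      rw [Subgroup.mem_center_iff]
      intro g
      have h := hcl b⁻¹ a⁻¹ g
      have e : (a * b)⁻¹ * (b * a) = b⁻¹ * a⁻¹ * b⁻¹⁻¹ * a⁻¹⁻¹ := by group
      rw [e]
      exact h.symm }

/-- commutative group structure on a commutative subgroup -/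
@[reducible] def orbEComm {G : Type u} [Group G] (E : Subgroup G)
    (hEab : ∀ e ∈ E, ∀ f ∈ E, e * f = f * e) : CommGroup ↥E :=
  { (inferInstance : Group ↥E) with
    mul_comm := fun x y => Subtype.ext (hEab x x.2 y y.2) }

/-- conjugation by an element normalizing `E`, on `E` -/
def orbConj {G : Type u} [Group G] (E : Subgroup G) (g : G) (hg : ∀ e ∈ E, g * e * g⁻¹ ∈ E) :
    ↥E →* ↥E where
  toFun x := ⟨g * x * g⁻¹, hg x x.2⟩
  map_one' := by
    apply Subtype.ext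
    simp
  map_mul' x y := by
    apply Subtype.ext
    simp [mul_assoc]

theorem orb_norm_idx {G : Type u} [Group G] {p : ℕ} [Fact p.Prime] (E : Subgroup G)
    (hEab : ∀ e ∈ E, ∀ f ∈ E, e * f = f * e) (hEp : ∀ e ∈ E, e ^ p = 1) (B' : Subgroup G)
    (e' : G) (he'E : e' ∈ E) (hcov : ∀ e ∈ E, ∃ k : ℕ, e * e' ^ k ∈ B') (g : G)
    (hgE : ∀ e ∈ E, g * e * g⁻¹ ∈ E) (hgB : ∀ b ∈ B', g * b * g⁻¹ ∈ B') (hgp : g ^ p = 1) :
    ∀ e ∈ E, g * e * g⁻¹ * e⁻¹ ∈ B' := by
  intro e he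
  have hAp : ∀ a : ↥E, a ^ p = 1 := fun a => Subtype.ext (by simpa using hEp a a.2)
  have hcov' : ∀ a : ↥E, ∃ k : ℕ, a * (⟨e', he'E⟩ : ↥E) ^ k ∈ B'.subgroupOf E := by
    intro a
    obtain ⟨k, hk⟩ := hcov a a.2
    exact ⟨k, by rw [Subgroup.mem_subgroupOf]; simpa using hk⟩
  have hcB : ∀ b ∈ B'.subgroupOf E, orbConj E g hgE b ∈ B'.subgroupOf E := by
    intro b hb
    rw [Subgroup.mem_subgroupOf] at hb ⊢
    exact hgB _ hb
  have hiter : ∀ (j : ℕ) (a : ↥E),
      (((orbConj E g hgE)^[j] a : ↥E) : G) = g ^ j * a * (g ^ j)⁻¹ := by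
    intro j
    induction j with
    | zero => intro a; simp
    | succ j ih =>
      intro a
      rw [Function.iterate_succ_apply']
      show g * (((orbConj E g hgE)^[j] a : ↥E) : G) * g⁻¹ = _
      rw [ih, pow_succ']
      group
  have hcp : ∀ a : ↥E, (orbConj E g hgE)^[p] a = a := by
    intro a
    apply Subtype.ext
    rw [hiter, hgp]
    simp
  have key := @orb_idx ↥E (orbEComm E hEab) p _ hAp (B'.subgroupOf E) ⟨e', he'E⟩ hcov'
    (orbConj E g hgE) hcB hcp ⟨e, he⟩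
  have key' : (orbConj E g hgE ⟨e, he⟩ * (⟨e, he⟩ : ↥E)⁻¹ : ↥E) ∈ B'.subgroupOf E := key
  rw [Subgroup.mem_subgroupOf] at key'
  exact key'

/-- the norm of `w` under `a` in the commutative group `T ⧸ Z(T)` -/
noncomputable def orbNorm
    (hcl : ∀ a b t : T, (a * b * a⁻¹ * b⁻¹) * t = t * (a * b * a⁻¹ * b⁻¹)) (p : ℕ)
    (a : MulAut T) (w : T ⧸ Subgroup.center T) : T ⧸ Subgroup.center T :=
  letI := orbComm hcl
  ∏ k ∈ Finset.range p, orbInd (a ^ k) w

theorem orbNorm_conj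
    (hcl : ∀ a b t : T, (a * b * a⁻¹ * b⁻¹) * t = t * (a * b * a⁻¹ * b⁻¹)) (p : ℕ)
    (g a : MulAut T) (w : T ⧸ Subgroup.center T) :
    orbNorm hcl p (g * a * g⁻¹) (orbInd g w) = orbInd g (orbNorm hcl p a w) := by
  letI := orbComm hcl
  unfold orbNorm
  rw [map_prod]
  apply Finset.prod_congr rfl
  intro k _
  rw [conj_pow, map_mul, map_mul, MulAut.mul_apply, MulAut.mul_apply, map_inv,
    MulAut.inv_apply_self]

theorem orbNorm_fixed
    (hcl : ∀ a b t : T, (a * b * a⁻¹ * b⁻¹) * t = t * (a * b * a⁻¹ * b⁻¹)) (p : ℕ)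
    (a : MulAut T) (w : T ⧸ Subgroup.center T) (h : ∀ k : ℕ, orbInd (a ^ k) w = w) :
    orbNorm hcl p a w = w ^ p := by
  letI := orbComm hcl
  unfold orbNorm
  rw [Finset.prod_congr rfl (fun k _ => h k), Finset.prod_const, Finset.card_range]

theorem orb_dec [Finite T] {p : ℕ} [Fact p.Prime] (hp2 : p ≠ 2)
    (hcl : ∀ a b t : T, (a * b * a⁻¹ * b⁻¹) * t = t * (a * b * a⁻¹ * b⁻¹))
    (hsq : ∀ a t : T, a ^ 2 * t = t * a ^ 2)
    (E : Subgroup (MulAut T)) (hEab : ∀ e ∈ E, ∀ f ∈ E, e * f = f * e)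
    (hEp : ∀ e ∈ E, e ^ p = 1) (e' : MulAut T) (he' : e' ∈ E) (t1 : T)
    (ht1 : orbInd e' (QuotientGroup.mk t1 : T ⧸ Subgroup.center T) ≠ QuotientGroup.mk t1) :
    ∃ (B' : Subgroup (MulAut T)) (t0 : T), B' ≤ E ∧ e' ∉ B' ∧
      (∀ e ∈ E, ∃ k : ℕ, e * e' ^ k ∈ B') ∧
      (QuotientGroup.mk t0 : T ⧸ Subgroup.center T) ≠ 1 ∧
      (∀ b ∈ B', orbInd b (QuotientGroup.mk t0 : T ⧸ Subgroup.center T) = QuotientGroup.mk t0) ∧
      (∀ a ∈ E, a ∉ B' → orbNorm hcl p a (QuotientGroup.mk t0) = 1) := by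
  have h2W : ∀ w : T ⧸ Subgroup.center T, w * w = 1 := by
    intro w
    induction w using QuotientGroup.induction_on with
    | H a =>
      rw [← QuotientGroup.mk_mul, QuotientGroup.eq_one_iff, Subgroup.mem_center_iff]
      intro g
      have := hsq a g
      rw [pow_two] at this
      exact this.symm
  have hAp : ∀ a : ↥E, a ^ p = 1 := fun a => Subtype.ext (by simpa using hEp a a.2)
  obtain ⟨B, w, he'B, hcov, hw, hBw, hnorm⟩ :=
    @dec_hyperplane (T ⧸ Subgroup.center T) (orbComm hcl) _ h2W p _ hp2 ↥E (orbEComm E hEab) _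
      hAp (orbInd.comp E.subtype) ⟨e', he'⟩ (QuotientGroup.mk t1) ht1
  obtain ⟨t0, rfl⟩ := QuotientGroup.mk_surjective w
  refine ⟨B.map E.subtype, t0, ?_, ?_, ?_, hw, ?_, ?_⟩
  · rintro _ ⟨y, -, rfl⟩
    exact y.2
  · rintro ⟨y, hy, hye⟩
    have : y = ⟨e', he'⟩ := Subtype.ext hye
    rw [this] at hy
    exact he'B hy
  · intro e he
    obtain ⟨k, hk⟩ := hcov ⟨e, he⟩
    exact ⟨k, ⟨_, hk, rfl⟩⟩
  · rintro _ ⟨y, hy, rfl⟩
    exact hBw y hy
  · intro a ha haB
    have h1 : (⟨a, ha⟩ : ↥E) ∉ B := fun h => haB ⟨_, h, rfl⟩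
    have h3 := hnorm _ h1
    letI := orbComm hcl
    unfold orbNorm
    refine Eq.trans (Finset.prod_congr rfl (fun k _ => ?_)) h3
    have e : E.subtype ((⟨a, ha⟩ : ↥E) ^ k) = a ^ k := map_pow E.subtype ⟨a, ha⟩ k
    rw [MonoidHom.comp_apply, e]

/-- commutative group structure on the center -/
@[reducible] def orbZComm : CommGroup ↥(Subgroup.center T) :=
  { (inferInstance : Group ↥(Subgroup.center T)) with
    mul_comm := fun x y => Subtype.ext (Subgroup.mem_center_iff.mp y.2 x.1) }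

theorem orb_two_p (hT : IsPGroup 2 T) {p : ℕ} [Fact p.Prime] (hp2 : p ≠ 2) {x : T}
    (h : x ^ p = 1) : x = 1 := by
  obtain ⟨k, hk⟩ := hT x
  have h1 : orderOf x ∣ 2 ^ k := orderOf_dvd_of_pow_eq_one hk
  have h2 : orderOf x ∣ p := orderOf_dvd_of_pow_eq_one h
  have hc : Nat.Coprime (2 ^ k) p :=
    Nat.Coprime.pow_left k ((Nat.coprime_primes Nat.prime_two Fact.out).mpr (Ne.symm hp2))
  have h3 : orderOf x ∣ 1 := by
    have := Nat.dvd_gcd h1 h2
    rwa [Nat.Coprime.gcd_eq_one hc] at this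
  exact orderOf_eq_one_iff.mp (Nat.dvd_one.mp h3)

theorem orb_orth (hT : IsPGroup 2 T) {p : ℕ} [Fact p.Prime] (hp2 : p ≠ 2)
    (hcl : ∀ a b t : T, (a * b * a⁻¹ * b⁻¹) * t = t * (a * b * a⁻¹ * b⁻¹)) (a : MulAut T)
    (haZ : ∀ z ∈ Subgroup.center T, a z = z) (tu tv : T)
    (h1 : orbInd a (QuotientGroup.mk tu : T ⧸ Subgroup.center T) = QuotientGroup.mk tu)
    (h2 : orbNorm hcl p a (QuotientGroup.mk tv) = 1) : tu * tv = tv * tu := by
  letI := orbComm hcl
  letI : CommGroup ↥(Subgroup.center T) := orbZComm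
  have hcen : ∀ y : T, tu * y * tu⁻¹ * y⁻¹ ∈ Subgroup.center T := fun y =>
    Subgroup.mem_center_iff.mpr (fun g => (hcl tu y g).symm)
  let χ : T →* ↥(Subgroup.center T) :=
    { toFun := fun y => ⟨tu * y * tu⁻¹ * y⁻¹, hcen y⟩
      map_one' := by
        apply Subtype.ext
        simp
      map_mul' := by
        intro y y'
        apply Subtype.ext
        show tu * (y * y') * tu⁻¹ * (y * y')⁻¹
          = (tu * y * tu⁻¹ * y⁻¹) * (tu * y' * tu⁻¹ * y'⁻¹)
        have h := hcl tu y' y⁻¹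
        calc tu * (y * y') * tu⁻¹ * (y * y')⁻¹
            = tu * y * tu⁻¹ * ((tu * y' * tu⁻¹ * y'⁻¹) * y⁻¹) := by group
          _ = tu * y * tu⁻¹ * (y⁻¹ * (tu * y' * tu⁻¹ * y'⁻¹)) := by rw [h]
          _ = _ := by group }
  have hχ_apply : ∀ y : T, ((χ y : ↥(Subgroup.center T)) : T) = tu * y * tu⁻¹ * y⁻¹ :=
    fun y => rfl
  have hker : Subgroup.center T ≤ χ.ker := by
    intro z hz
    rw [MonoidHom.mem_ker]
    apply Subtype.ext
    rw [hχ_apply]
    rw [Subgroup.mem_center_iff] at hz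
    rw [hz tu]
    simp
  have hak : ∀ k : ℕ,
      orbInd (a ^ k) (QuotientGroup.mk tu : T ⧸ Subgroup.center T) = QuotientGroup.mk tu := by
    intro k
    induction k with
    | zero => simp
    | succ k ih => rw [pow_succ, map_mul, MulAut.mul_apply, h1, ih]
  have hakZ : ∀ k : ℕ, ∀ z ∈ Subgroup.center T, (a ^ k) z = z := by
    intro k
    induction k with
    | zero => intro z _; simp
    | succ k ih => intro z hz; rw [pow_succ, MulAut.mul_apply, haZ z hz, ih z hz]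
  have hχ : ∀ k : ℕ, χ ((a ^ k) tv) = χ tv := by
    intro k
    apply Subtype.ext
    rw [hχ_apply, hχ_apply]
    have hz : tu⁻¹ * (a ^ k) tu ∈ Subgroup.center T := by
      have := hak k
      rw [orbInd_mk] at this
      exact (QuotientGroup.eq.mp this.symm)
    have hfix := hakZ k _ (hcen tv)
    rw [map_mul, map_mul, map_mul, map_inv, map_inv] at hfix
    rw [Subgroup.mem_center_iff] at hz
    calc tu * (a ^ k) tv * tu⁻¹ * ((a ^ k) tv)⁻¹
        = tu * ((a ^ k) tv * (tu⁻¹ * (a ^ k) tu)) * ((a ^ k) tu)⁻¹ * ((a ^ k) tv)⁻¹ := by group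
      _ = tu * (tu⁻¹ * (a ^ k) tu * (a ^ k) tv) * ((a ^ k) tu)⁻¹ * ((a ^ k) tv)⁻¹ := by
          rw [hz ((a ^ k) tv)]
      _ = (a ^ k) tu * (a ^ k) tv * ((a ^ k) tu)⁻¹ * ((a ^ k) tv)⁻¹ := by group
      _ = tu * tv * tu⁻¹ * tv⁻¹ := hfix
  have h3 : QuotientGroup.lift _ χ hker (orbNorm hcl p a (QuotientGroup.mk tv)) = (χ tv) ^ p := by
    unfold orbNorm
    rw [map_prod]
    have hterm : ∀ k ∈ Finset.range p, QuotientGroup.lift _ χ hker
        (orbInd (a ^ k) (QuotientGroup.mk tv : T ⧸ Subgroup.center T)) = χ tv := by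
      intro k _
      rw [orbInd_mk, QuotientGroup.lift_mk, hχ k]
    rw [Finset.prod_congr rfl hterm, Finset.prod_const, Finset.card_range]
  rw [h2, map_one] at h3
  have h4 : (tu * tv * tu⁻¹ * tv⁻¹) ^ p = 1 := by
    have := congrArg Subtype.val h3.symm
    rw [← hχ_apply]
    simpa using this
  have h5 := orb_two_p hT hp2 h4
  calc tu * tv = (tu * tv * tu⁻¹ * tv⁻¹) * (tv * tu) := by group
    _ = tv * tu := by rw [h5, one_mul]

end OrbT

theorem orbit_arg {T : Type u} [Group T] [Finite T] {p : ℕ} [Fact p.Prime] (hp2 : p ≠ 2)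
    (hT : IsPGroup 2 T)
    (hcl : ∀ a b t : T, (a * b * a⁻¹ * b⁻¹) * t = t * (a * b * a⁻¹ * b⁻¹))
    (hsq : ∀ a t : T, a ^ 2 * t = t * a ^ 2)
    (γ : MulAut T) (n : ℕ) (hn : 1 ≤ n) (hγ : γ ^ p ^ n = 1)
    (hstar : ∀ A : Subgroup T, (∀ a ∈ A, ∀ b ∈ A, a * b = b * a) → (∀ a ∈ A, γ a ∈ A) →
        ∀ a ∈ A, (γ ^ p ^ (n - 1)) a = a)
    (E : Subgroup (MulAut T)) (hEab : ∀ e ∈ E, ∀ f ∈ E, e * f = f * e)
    (hEp : ∀ e ∈ E, e ^ p = 1)
    (hEZ : ∀ e ∈ E, ∀ z ∈ Subgroup.center T, e z = z)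
    (hEγ : ∀ e ∈ E, γ * e * γ⁻¹ ∈ E) :
    ∀ e ∈ E, γ ^ p ^ (n - 1) * e = e * γ ^ p ^ (n - 1) := by
  classical
  have hp : p.Prime := Fact.out
  obtain ⟨γ0, hγ0⟩ : ∃ γ0 : MulAut T, γ0 = γ ^ p ^ (n - 1) := ⟨_, rfl⟩
  rw [← hγ0]
  have hγ0p : γ0 ^ p = 1 := by
    rw [hγ0, ← pow_mul, ← pow_succ]
    have : n - 1 + 1 = n := by omega
    rw [this]
    exact hγ
  have hconj : ∀ k : ℕ, ∀ e ∈ E, γ ^ k * e * (γ ^ k)⁻¹ ∈ E := by
    intro k
    induction k with
    | zero => intro e he; simpa using he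
    | succ k ih =>
      intro e he
      have h1 := hEγ _ (ih e he)
      have e2 : γ ^ (k + 1) * e * (γ ^ (k + 1))⁻¹ = γ * (γ ^ k * e * (γ ^ k)⁻¹) * γ⁻¹ := by
        rw [pow_succ']
        group
      rw [e2]
      exact h1
  have hconj0 : ∀ e ∈ E, γ0 * e * γ0⁻¹ ∈ E := by
    rw [hγ0]
    exact hconj _
  intro e he
  by_contra hne
  obtain ⟨e', he'def⟩ : ∃ e' : MulAut T, e' = γ0 * e * γ0⁻¹ * e⁻¹ := ⟨_, rfl⟩
  have he'E : e' ∈ E := by
    rw [he'def]
    exact E.mul_mem (hconj0 e he) (E.inv_mem he)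
  have he'1 : e' ≠ 1 := by
    intro h
    apply hne
    have h1 : γ0 * e * γ0⁻¹ = e := by
      rw [← mul_inv_eq_one, ← he'def]
      exact h
    calc γ0 * e = γ0 * e * γ0⁻¹ * γ0 := by group
      _ = e * γ0 := by rw [h1]
  -- `e'` moves some element of `T ⧸ Z(T)`
  obtain ⟨t1, ht1⟩ : ∃ t1 : T,
      orbInd e' (QuotientGroup.mk t1 : T ⧸ Subgroup.center T) ≠ QuotientGroup.mk t1 := by
    by_contra hall
    push Not at hall
    apply he'1
    ext t
    show e' t = t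
    have hz : t⁻¹ * e' t ∈ Subgroup.center T := by
      have := hall t
      rw [orbInd_mk] at this
      exact (QuotientGroup.eq.mp this.symm)
    have hez := hEZ e' he'E _ hz
    have hk : ∀ k : ℕ, (e' ^ k) t = t * (t⁻¹ * e' t) ^ k := by
      intro k
      induction k with
      | zero => simp
      | succ k ih =>
        rw [pow_succ', MulAut.mul_apply, ih, map_mul, map_pow, hez, pow_succ', ← mul_assoc,
          mul_inv_cancel_left]
    have h1 := hk p
    rw [hEp e' he'E] at h1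
    have h2 : (t⁻¹ * e' t) ^ p = 1 := by
      have : t * (t⁻¹ * e' t) ^ p = t * 1 := by
        rw [mul_one]
        exact h1.symm
      exact mul_left_cancel this
    have h3 := orb_two_p hT hp2 h2
    calc e' t = t * (t⁻¹ * e' t) := by group
      _ = t := by rw [h3, mul_one]
  obtain ⟨B', t0, hB'E, he'B', hcov, hw, hfix, hnorm⟩ :=
    orb_dec hp2 hcl hsq E hEab hEp e' he'E t1 ht1
  -- `γ0` does not normalize `B'`
  have h3c : ¬ (∀ b ∈ B', γ0 * b * γ0⁻¹ ∈ B') := by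
    intro hgB
    have := orb_norm_idx E hEab hEp B' e' he'E hcov γ0 hconj0 hgB hγ0p e he
    rw [← he'def] at this
    exact he'B' this
  have h3b : ∀ d : ℕ, 0 < d → d < p ^ n → ∃ b ∈ B', γ ^ d * b * (γ ^ d)⁻¹ ∉ B' := by
    intro d hd0 hd
    by_contra hall
    push Not at hall
    have hmem : γ ^ d ∈ orbPres B' := hall
    have := orb_pow_mem (orbPres B') γ p n hγ d hd0 hd hmem
    rw [← hγ0] at this
    exact h3c this
  -- the translates of `t0` commute pairwise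
  have hcomm : ∀ k d : ℕ, 0 < d → d < p ^ n →
      (γ ^ (k + d)) t0 * (γ ^ k) t0 = (γ ^ k) t0 * (γ ^ (k + d)) t0 := by
    intro k d hd0 hd
    obtain ⟨b, hb, hb''⟩ := h3b d hd0 hd
    have hb''E : γ ^ d * b * (γ ^ d)⁻¹ ∈ E := hconj d b (hB'E hb)
    have haE : γ ^ k * (γ ^ d * b * (γ ^ d)⁻¹) * (γ ^ k)⁻¹ ∈ E := hconj k _ hb''E
    have ha2 : γ ^ k * (γ ^ d * b * (γ ^ d)⁻¹) * (γ ^ k)⁻¹
        = γ ^ (k + d) * b * (γ ^ (k + d))⁻¹ := by
      rw [pow_add]
      group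
    apply orb_orth hT hp2 hcl (γ ^ k * (γ ^ d * b * (γ ^ d)⁻¹) * (γ ^ k)⁻¹) (hEZ _ haE)
      ((γ ^ (k + d)) t0) ((γ ^ k) t0)
    · rw [ha2, ← orbInd_mk (γ ^ (k + d)) t0, map_mul, map_mul, MulAut.mul_apply,
        MulAut.mul_apply, map_inv, MulAut.inv_apply_self, hfix b hb]
    · rw [← orbInd_mk (γ ^ k) t0, orbNorm_conj, hnorm _ hb''E hb'', map_one]
  have hmod : ∀ k : ℕ, (γ ^ k) t0 = (γ ^ (k % p ^ n)) t0 := by
    intro k
    rw [pow_eq_pow_mod k hγ]
  have hcomm2 : ∀ k l : ℕ, (γ ^ k) t0 * (γ ^ l) t0 = (γ ^ l) t0 * (γ ^ k) t0 := by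
    intro k l
    rw [hmod k, hmod l]
    have hk := Nat.mod_lt k (pow_pos hp.pos n)
    have hl := Nat.mod_lt l (pow_pos hp.pos n)
    generalize k % p ^ n = k' at hk
    generalize l % p ^ n = l' at hl
    rcases lt_trichotomy k' l' with h | h | h
    · obtain ⟨d, rfl⟩ := Nat.exists_eq_add_of_lt h
      exact (hcomm k' (d + 1) (by omega) (by omega)).symm
    · rw [h]
    · obtain ⟨d, rfl⟩ := Nat.exists_eq_add_of_lt h
      exact hcomm l' (d + 1) (by omega) (by omega)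
  -- the commutative `γ`-invariant subgroup generated by the translates
  have hScomm : ∀ x ∈ Set.range (fun k : ℕ => (γ ^ k) t0),
      ∀ y ∈ Set.range (fun k : ℕ => (γ ^ k) t0), x * y = y * x := by
    rintro _ ⟨k, rfl⟩ _ ⟨l, rfl⟩
    exact hcomm2 k l
  have hAcomm : ∀ a ∈ Subgroup.closure (Set.range (fun k : ℕ => (γ ^ k) t0)),
      ∀ b ∈ Subgroup.closure (Set.range (fun k : ℕ => (γ ^ k) t0)), a * b = b * a := by
    intro a ha b hb
    have hc := Subgroup.isMulCommutative_closure hScomm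
    have := mul_comm' (⟨a, ha⟩ : ↥(Subgroup.closure (Set.range (fun k : ℕ => (γ ^ k) t0))))
      ⟨b, hb⟩
    exact congrArg Subtype.val this
  have hAinv : ∀ a ∈ Subgroup.closure (Set.range (fun k : ℕ => (γ ^ k) t0)),
      γ a ∈ Subgroup.closure (Set.range (fun k : ℕ => (γ ^ k) t0)) := by
    intro a ha
    induction ha using Subgroup.closure_induction with
    | mem x hx =>
      obtain ⟨k, rfl⟩ := hx
      apply Subgroup.subset_closure
      refine ⟨k + 1, ?_⟩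
      show (γ ^ (k + 1)) t0 = γ ((γ ^ k) t0)
      rw [pow_succ', MulAut.mul_apply]
    | one => rw [map_one]; exact Subgroup.one_mem _
    | mul x y _ _ hx hy => rw [map_mul]; exact Subgroup.mul_mem _ hx hy
    | inv x _ hx => rw [map_inv]; exact Subgroup.inv_mem _ hx
  have hγ0t0 : γ0 t0 = t0 := by
    rw [hγ0]
    exact hstar _ hAcomm hAinv t0 (Subgroup.subset_closure ⟨0, by simp⟩)
  -- final contradiction
  have hlt : p ^ (n - 1) < p ^ n := Nat.pow_lt_pow_right hp.one_lt (by omega)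
  obtain ⟨b, hb, hb''⟩ := h3b (p ^ (n - 1)) (pow_pos hp.pos _) hlt
  rw [← hγ0] at hb''
  have hb''E : γ0 * b * γ0⁻¹ ∈ E := hconj0 b (hB'E hb)
  have hN := hnorm _ hb''E hb''
  have hw0 : orbInd γ0 (QuotientGroup.mk t0 : T ⧸ Subgroup.center T) = QuotientGroup.mk t0 := by
    rw [orbInd_mk, hγ0t0]
  have h1 : orbNorm hcl p (γ0 * b * γ0⁻¹) (QuotientGroup.mk t0)
      = (QuotientGroup.mk t0 : T ⧸ Subgroup.center T) ^ p := by
    conv_lhs => rw [← hw0]
    rw [orbNorm_conj, orbNorm_fixed hcl p b _ (fun k => hfix _ (B'.pow_mem hb k)), map_pow, hw0]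
  rw [h1] at hN
  apply hw
  have h2 : (QuotientGroup.mk t0 : T ⧸ Subgroup.center T) ^ 2 = 1 := by
    rw [← QuotientGroup.mk_pow, QuotientGroup.eq_one_iff, Subgroup.mem_center_iff]
    intro g
    exact (hsq t0 g).symm
  have hc : Nat.Coprime p 2 := (Nat.coprime_primes hp Nat.prime_two).mpr hp2
  have h3 : orderOf (QuotientGroup.mk t0 : T ⧸ Subgroup.center T) ∣ 1 := by
    have := Nat.dvd_gcd (orderOf_dvd_of_pow_eq_one hN) (orderOf_dvd_of_pow_eq_one h2)
    rwa [Nat.Coprime.gcd_eq_one hc] at this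
  exact orderOf_eq_one_iff.mp (Nat.dvd_one.mp h3)

end Cfsg.Agent.Lib.Helper86.HH
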