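import Mathlib
import Cfsg.Agent.S2133

/-! Piece ASM of S2134 (helper70's skeleton): `C(z) = W ⋊ H₀` acting on the cosets of `H₀`,
fed to `Cfsg.Agent.S2133.abstract_iso`. -/

set_option autoImplicit false

namespace Cfsg.Agent.Lib.Helper86.HeCASM

theorem cent_iso_of_data {G : Type} [Group G] [Finite G] (z : G)
    (wOf : (Fin 4 → ZMod 2) → G) (hadd : ∀ a b, wOf (a + b) = wOf a * wOf b)
    (hw0 : wOf (Pi.single 0 1) = z)
    (H₀ : Subgroup G)
    (hWH : ∀ a, wOf a ∈ H₀ → a = 0)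
    (hnorm : ∀ h ∈ H₀, ∀ a, ∃ b, h * wOf a * h⁻¹ = wOf b)
    (hcz : ∀ h ∈ H₀, h * z = z * h)
    (hub : Nat.card (Subgroup.centralizer ({z} : Set G)) ≤ 21504)
    (f : Fin 1344 → G) (hf : ∀ i, f i ∈ H₀)
    (hdist : ∀ i j, (∀ a, f i * wOf a * (f i)⁻¹ = f j * wOf a * (f j)⁻¹) → i = j)
    (s : Matrix.SpecialLinearGroup (Fin 5) (ZMod 2))
    (hs : (s : Matrix (Fin 5) (Fin 5) (ZMod 2)) = Matrix.transvection 0 1 1) :
    Nonempty (↥(Subgroup.centralizer ({z} : Set G)) ≃*
      ↥(Subgroup.centralizer ({s} : Set (Matrix.SpecialLinearGroup (Fin 5) (ZMod 2))))) := by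
  classical
  have char2 : ∀ a : Fin 4 → ZMod 2, a + a = 0 := by
    intro a; funext i; exact CharTwo.add_self_eq_zero (a i)
  have w0 : wOf 0 = 1 := by
    have h := hadd 0 0
    rw [add_zero] at h
    exact mul_eq_left.mp h.symm
  have wsq : ∀ a, wOf a * wOf a = 1 := by
    intro a
    rw [← hadd, char2, w0]
  have winv : ∀ a, (wOf a)⁻¹ = wOf a := fun a => inv_eq_of_mul_eq_one_left (wsq a)
  have wcomm : ∀ a b, wOf a * wOf b = wOf b * wOf a := by
    intro a b; rw [← hadd, ← hadd, add_comm]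
  have wz : ∀ a, wOf a * z = z * wOf a := by
    intro a; rw [← hw0]; exact wcomm _ _
  have wmem : ∀ a, wOf a ∈ Subgroup.centralizer ({z} : Set G) := by
    intro a
    rw [Subgroup.mem_centralizer_iff]
    intro x hx
    rw [Set.mem_singleton_iff] at hx
    rw [hx]
    exact (wz a).symm
  have Hle : H₀ ≤ Subgroup.centralizer ({z} : Set G) := by
    intro h hh
    rw [Subgroup.mem_centralizer_iff]
    intro x hx
    rw [Set.mem_singleton_iff] at hx
    rw [hx]
    exact (hcz h hh).symm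
  have eq_of_add : ∀ a b : Fin 4 → ZMod 2, a + b = 0 → a = b := by
    intro a b h
    have h2 : a + b + b = 0 + b := by rw [h]
    rw [add_assoc, char2 b, add_zero, zero_add] at h2
    exact h2
  -- the injection `V × H₀ → C(z)`
  let φ : (Fin 4 → ZMod 2) × H₀ → Subgroup.centralizer ({z} : Set G) :=
    fun p => ⟨wOf p.1 * p.2.1, Subgroup.mul_mem _ (wmem p.1) (Hle p.2.2)⟩
  have hφ : Function.Injective φ := by
    rintro ⟨a, h⟩ ⟨b, h'⟩ hab
    have e : wOf a * h.1 = wOf b * h'.1 := congrArg Subtype.val hab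
    have e2 : wOf (b + a) = h'.1 * h.1⁻¹ := by
      rw [hadd, eq_mul_inv_iff_mul_eq, mul_assoc, e, ← mul_assoc, wsq, one_mul]
    have e3 : b + a = 0 := hWH _ (by rw [e2]; exact H₀.mul_mem h'.2 (H₀.inv_mem h.2))
    have e4 : b = a := eq_of_add _ _ e3
    subst e4
    have e5 : h.1 = h'.1 := mul_left_cancel e
    have e6 : h = h' := Subtype.ext e5
    rw [e6]
  have cV : Nat.card (Fin 4 → ZMod 2) = 16 := by
    rw [Nat.card_eq_fintype_card]
    simp
  have c1 : 16 * Nat.card H₀ ≤ Nat.card (Subgroup.centralizer ({z} : Set G)) := by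
    have h := Nat.card_le_card_of_injective φ hφ
    rwa [Nat.card_prod, cV] at h
  let f' : Fin 1344 → H₀ := fun i => ⟨f i, hf i⟩
  have hf' : Function.Injective f' := by
    intro i j hij
    apply hdist
    intro a
    have h : f i = f j := congrArg Subtype.val hij
    rw [h]
  have c2 : 1344 ≤ Nat.card H₀ := by
    have h := Nat.card_le_card_of_injective f' hf'
    simpa using h
  have c3 : Nat.card H₀ = 1344 := by omega
  have c4 : Nat.card (Subgroup.centralizer ({z} : Set G)) = 21504 := by omega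
  have hφs : Function.Surjective φ := by
    have h : Function.Bijective φ := by
      rw [Nat.bijective_iff_injective_and_card]
      refine ⟨hφ, ?_⟩
      rw [Nat.card_prod, cV, c3, c4]
    exact h.2
  have hf's : Function.Surjective f' := by
    have h : Function.Bijective f' := by
      rw [Nat.bijective_iff_injective_and_card]
      refine ⟨hf', ?_⟩
      rw [c3]; simp
    exact h.2
  -- decomposition of elements of `C(z)`
  have dec : ∀ g : Subgroup.centralizer ({z} : Set G), ∃ t, ∃ h ∈ H₀, (g : G) = wOf t * h := by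
    intro g
    obtain ⟨⟨t, h⟩, hp⟩ := hφs g
    exact ⟨t, h.1, h.2, (congrArg Subtype.val hp).symm⟩
  -- conjugation by `C(z)` preserves `W`
  have conjW : ∀ g : Subgroup.centralizer ({z} : Set G), ∀ a, ∃ b,
      (g : G) * wOf a * (g : G)⁻¹ = wOf b := by
    intro g a
    obtain ⟨t, h, hh, hg⟩ := dec g
    obtain ⟨b, hb⟩ := hnorm h hh a
    refine ⟨b, ?_⟩
    rw [hg, mul_inv_rev, winv]
    calc wOf t * h * wOf a * (h⁻¹ * wOf t) = wOf t * (h * wOf a * h⁻¹) * wOf t := by group
      _ = wOf t * wOf b * wOf t := by rw [hb]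
      _ = wOf b := by rw [wcomm t b, mul_assoc, wsq, mul_one]
  let T : G →* Equiv.Perm (G ⧸ H₀) := MulAction.toPermHom G (G ⧸ H₀)
  have Tapp : ∀ (g x : G), T g (QuotientGroup.mk x : G ⧸ H₀) = QuotientGroup.mk (g * x) := by
    intro g x; rfl
  have Tinv : ∀ g : G, (T g)⁻¹ = T g⁻¹ := fun g => (map_inv T g).symm
  refine Cfsg.Agent.S2133.abstract_iso
    (T.comp (Subgroup.centralizer ({z} : Set G)).subtype)
    (fun a => T (wOf a)) ?_ (QuotientGroup.mk 1 : G ⧸ H₀) ?_ ?_ ?_ ?_ ?_ ?_ s hs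
  · intro a b
    show T (wOf (a + b)) = T (wOf a) * T (wOf b)
    rw [hadd, map_mul]
  · intro g a
    obtain ⟨b, hb⟩ := conjW g a
    refine ⟨b, ?_⟩
    change T (g : G) * T (wOf a) * (T (g : G))⁻¹ = T (wOf b)
    rw [Tinv, ← map_mul, ← map_mul, hb]
  · intro g
    obtain ⟨t, h, hh, hg⟩ := dec g
    refine ⟨t, ?_⟩
    change T (g : G) (QuotientGroup.mk 1 : G ⧸ H₀) = T (wOf t) (QuotientGroup.mk 1 : G ⧸ H₀)
    rw [Tapp, Tapp, QuotientGroup.eq, hg]
    have e : (wOf t * h * 1)⁻¹ * (wOf t * 1) = h⁻¹ := by group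
    rw [e]
    exact H₀.inv_mem hh
  · intro a b hab
    change T (wOf a) (QuotientGroup.mk 1 : G ⧸ H₀) = T (wOf b) (QuotientGroup.mk 1 : G ⧸ H₀) at hab
    rw [Tapp, Tapp, QuotientGroup.eq, mul_one, mul_one, winv, ← hadd] at hab
    exact eq_of_add _ _ (hWH _ hab)
  · intro g
    change T (g : G) * T (wOf (Pi.single 0 1)) * (T (g : G))⁻¹ = T (wOf (Pi.single 0 1))
    rw [Tinv, ← map_mul, ← map_mul, hw0]
    have hg := g.2
    rw [Subgroup.mem_centralizer_iff] at hg
    have e := hg z (Set.mem_singleton z)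
    rw [← e, mul_inv_cancel_right]
  · intro g hg
    have hfix : ∀ a, (wOf a)⁻¹ * ((g : G) * wOf a) ∈ H₀ := by
      intro a
      have h := hg a
      change T (g : G) (T (wOf a) (QuotientGroup.mk 1 : G ⧸ H₀)) =
        T (wOf a) (QuotientGroup.mk 1 : G ⧸ H₀) at h
      rw [Tapp, Tapp, QuotientGroup.eq, mul_one] at h
      have h2 := H₀.inv_mem h
      have e : ((g : G) * wOf a)⁻¹ * wOf a = ((wOf a)⁻¹ * ((g : G) * wOf a))⁻¹ := by group
      rw [e, inv_inv] at h2
      exact h2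
    have gH : (g : G) ∈ H₀ := by
      have h := hfix 0
      rw [w0, inv_one, one_mul, mul_one] at h
      exact h
    have gcomm : ∀ a, (g : G) * wOf a * (g : G)⁻¹ = wOf a := by
      intro a
      obtain ⟨b, hb⟩ := hnorm (g : G) gH a
      have h := H₀.mul_mem (hfix a) (H₀.inv_mem gH)
      have e : (wOf a)⁻¹ * ((g : G) * wOf a) * (g : G)⁻¹ = wOf (a + b) := by
        rw [hadd, ← hb, winv]; group
      rw [e] at h
      have e2 : a = b := eq_of_add _ _ (hWH _ h)
      rw [hb, ← e2]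
    obtain ⟨i, hi⟩ := hf's ⟨(g : G), gH⟩
    obtain ⟨j, hj⟩ := hf's ⟨1, H₀.one_mem⟩
    have hi' : f i = (g : G) := congrArg Subtype.val hi
    have hj' : f j = 1 := congrArg Subtype.val hj
    have hij : i = j := by
      apply hdist
      intro a
      rw [hi', hj', gcomm a]
      simp
    rw [hij, hj'] at hi'
    exact Subtype.ext hi'.symm
  · rw [c4]

end Cfsg.Agent.Lib.Helper86.HeCASM
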