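import Mathlib
import Cfsg.Agent.Lib.Helper9.M24Enum
import Cfsg.Agent.Lib.Helper9.M24LB
import Cfsg.Agent.Lib.Helper95.TabGroup

/-!
# Normalizers of cyclic subgroups of prime order in `M₂₄`, by tables (helper86)

For an element `x` of prime order `p ≥ 5` of `M₂₄` whose table has a cycle through the points
`23, 0, 1, 2, 3`, the normalizer of `⟨x⟩` is bounded by the orbit-stabiliser formula at the
point `23`: an element fixing that point and conjugating `x` to `x ^ k` agrees on five points
with a tabulated element of `M₂₄`, hence differs from it by one of the `48` elements fixing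
those five points.
-/

set_option autoImplicit false
open scoped Pointwise
open Cfsg

namespace Cfsg.Agent.Lib.Helper86.M24N

open Cfsg.Agent.Lib.Helper9 Cfsg.Agent.Lib.Helper95

/-- Tables of the `48` elements of `M₂₄` fixing the points `23, 0, 1, 2, 3`. -/
def w5Tabs : List (List ℕ) := words5.map (prodT sgsTabs)

/-- Candidate tables for the normalizing elements fixing the point `23`. -/
def candList (XT : List ℕ) (p : ℕ) (Gs : List (List ℕ)) : List (List ℕ) :=
  (List.range (p - 1)).flatMap (fun j =>
    (w5Tabs.map (fun S => compT (Gs.getD j []) S)).filter (fun Nt =>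
      compT Nt XT == compT (powT XT (j + 1)) Nt))

/-- The decidable side conditions on the data. -/
def normOK (XT : List ℕ) (p : ℕ) (Gs : List (List ℕ)) : Bool :=
  permOK XT && tableOK XT && (powT XT p == idT) && (XT != idT) && (XT.getD 23 0 != 23) &&
  ([3, 2, 1, 0, 23] : List ℕ).all (fun c =>
    (List.range 5).any (fun i => (powT XT i).getD 23 0 == c)) &&
  (List.range (p - 1)).all (fun j =>
    permOK (Gs.getD j []) && tableOK (Gs.getD j []) &&
    (List.range 5).all (fun i =>
      (Gs.getD j []).getD ((powT XT i).getD 23 0) 0 == (powT (powT XT (j + 1)) i).getD 23 0))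

/-- The number of points moved by a table. -/
def movedCnt (XT : List ℕ) : ℕ := ((List.range 24).filter (fun i => XT.getD i 0 != i)).length

theorem idx_injective : Function.Injective idx :=
  Function.LeftInverse.injective pt_idx

theorem pow_rel {n X Y : Equiv.Perm GolayPt} (h : n * X = Y * n) (i : ℕ) :
    n * X ^ i = Y ^ i * n := by
  induction i with
  | zero => simp
  | succ i ih => rw [pow_succ, ← mul_assoc, ih, mul_assoc, h, ← mul_assoc, ← pow_succ]

theorem pow_fix {X : Equiv.Perm GolayPt} {q : GolayPt} (h : X q = q) (k : ℕ) :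
    (X ^ k) q = q := by
  induction k with
  | zero => simp
  | succ k ih => rw [pow_succ, Equiv.Perm.mul_apply, h, ih]

theorem card_normalizer_le (XT : List ℕ) (p : ℕ) [hp : Fact p.Prime] (Gs : List (List ℕ))
    (h : normOK XT p Gs = true) (x : ↥M24) (hx : (x : Equiv.Perm GolayPt) = tperm XT) :
    orderOf x = p ∧
    Nat.card ↥(Subgroup.normalizer ((Subgroup.zpowers x : Subgroup ↥M24) : Set ↥M24)) ≤
      movedCnt XT * (candList XT p Gs).length := by
  classical
  simp only [normOK, Bool.and_eq_true, List.all_eq_true, List.any_eq_true, beq_iff_eq,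
    bne_iff_ne, List.mem_range] at h
  obtain ⟨⟨⟨⟨⟨⟨hperm, hok⟩, hpow⟩, hne⟩, hmv⟩, hcov⟩, hG⟩ := h
  have hXT : HasTable (tperm XT) XT := hasTable_tperm hperm
  have hord : orderOf (tperm XT) = p := orderOf_eq_of_table hXT hpow hne
  have hordx : orderOf x = p := by
    rw [← hord, ← hx]
    exact (Subgroup.orderOf_coe x).symm
  refine ⟨hordx, ?_⟩
  have hHle : (Subgroup.normalizer ((Subgroup.zpowers x : Subgroup ↥M24) : Set ↥M24)).map
      M24.subtype ≤ M24 := by
    rintro _ ⟨n, -, rfl⟩
    exact n.2
  have hcardH : Nat.card ↥((Subgroup.normalizer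
      ((Subgroup.zpowers x : Subgroup ↥M24) : Set ↥M24)).map M24.subtype) =
      Nat.card ↥(Subgroup.normalizer ((Subgroup.zpowers x : Subgroup ↥M24) : Set ↥M24)) :=
    Subgroup.card_map_of_injective (Subgroup.subtype_injective _)
  have hrel : ∀ n ∈ (Subgroup.normalizer ((Subgroup.zpowers x : Subgroup ↥M24) : Set ↥M24)).map
      M24.subtype, ∃ k, 1 ≤ k ∧ k < p ∧ n * tperm XT = tperm XT ^ k * n := by
    rintro _ ⟨n, hn, rfl⟩
    have h1 : n * x * n⁻¹ ∈ Subgroup.zpowers x :=
      (Subgroup.mem_normalizer_iff.mp hn x).mp (Subgroup.mem_zpowers x)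
    obtain ⟨z, hz⟩ := Subgroup.mem_zpowers_iff.mp h1
    have hppos : (0 : ℤ) < (p : ℤ) := by exact_mod_cast hp.out.pos
    have hz2 : x ^ (z % (p : ℤ)).toNat = n * x * n⁻¹ := by
      rw [← hz, ← zpow_natCast, Int.toNat_of_nonneg (Int.emod_nonneg _ hppos.ne'), ← hordx,
        zpow_mod_orderOf]
    have hklt : (z % (p : ℤ)).toNat < p := by
      have := Int.emod_lt_of_pos z hppos
      omega
    refine ⟨(z % (p : ℤ)).toNat, ?_, hklt, ?_⟩
    · by_contra h0
      have h0' : (z % (p : ℤ)).toNat = 0 := by omega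
      rw [h0', pow_zero] at hz2
      have hx1 : x = 1 := by
        have h2 : n⁻¹ * (n * x * n⁻¹) * n = x := by group
        rw [← hz2] at h2
        rw [← h2]
        group
      rw [hx1, orderOf_one] at hordx
      exact hp.out.one_lt.ne hordx
    · have h3 : n * x = x ^ (z % (p : ℤ)).toNat * n := by
        rw [hz2]
        group
      have h4 := congrArg (Subtype.val) h3
      rw [Subgroup.coe_mul, Subgroup.coe_mul, Subgroup.coe_pow, hx] at h4
      exact h4
  -- the orbit of the point `23`
  have horb : (MulAction.orbit ↥((Subgroup.normalizer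
      ((Subgroup.zpowers x : Subgroup ↥M24) : Set ↥M24)).map M24.subtype) (pt 23)).ncard ≤
      movedCnt XT := by
    have hsub : ∀ q ∈ MulAction.orbit ↥((Subgroup.normalizer
        ((Subgroup.zpowers x : Subgroup ↥M24) : Set ↥M24)).map M24.subtype) (pt 23),
        idx q ∈ (((List.range 24).filter (fun i => XT.getD i 0 != i)).toFinset : Set ℕ) := by
      rintro q ⟨⟨n, hn⟩, rfl⟩
      obtain ⟨k, -, -, hnk⟩ := hrel n hn
      show idx (n (pt 23)) ∈ _
      rw [Finset.mem_coe, List.mem_toFinset, List.mem_filter, List.mem_range]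
      refine ⟨idx_lt _, ?_⟩
      rw [bne_iff_ne]
      intro hfix
      have hXfix : tperm XT (n (pt 23)) = n (pt 23) := by
        rw [hXT.2, hfix, pt_idx]
      have h2 : n (tperm XT (pt 23)) = n (pt 23) := by
        have h3 := congrArg (fun f : Equiv.Perm GolayPt => f (pt 23)) hnk
        simp only [Equiv.Perm.mul_apply] at h3
        rw [h3, pow_fix hXfix]
      have h5 := n.injective h2
      rw [hXT.apply_pt (by norm_num)] at h5
      have h6 := congrArg idx h5
      rw [idx_pt (hXT.getD_lt 23), idx_pt (by norm_num)] at h6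
      exact hmv h6
    calc (MulAction.orbit ↥((Subgroup.normalizer
          ((Subgroup.zpowers x : Subgroup ↥M24) : Set ↥M24)).map M24.subtype) (pt 23)).ncard
        ≤ ((((List.range 24).filter (fun i => XT.getD i 0 != i)).toFinset : Finset ℕ) :
            Set ℕ).ncard :=
          Set.ncard_le_ncard_of_injOn idx hsub (idx_injective.injOn) (Finset.finite_toSet _)
      _ = ((List.range 24).filter (fun i => XT.getD i 0 != i)).toFinset.card :=
          Set.ncard_coe_finset _
      _ ≤ _ := List.toFinset_card_le _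
  -- the stabiliser of the point `23`
  have hcand : ∀ n ∈ (Subgroup.normalizer ((Subgroup.zpowers x : Subgroup ↥M24) : Set ↥M24)).map
      M24.subtype ⊓ fixing [23], ∃ T ∈ candList XT p Gs, HasTable n T := by
    rintro n ⟨hnH, hnfix⟩
    have hn23 : n (pt 23) = pt 23 := hnfix 23 (by simp)
    obtain ⟨k, hk1, hkp, hnk⟩ := hrel n hnH
    obtain ⟨j, rfl⟩ : ∃ j, k = j + 1 := ⟨k - 1, by omega⟩
    have hj : j < p - 1 := by omega
    obtain ⟨⟨hGperm, hGok⟩, hGimg⟩ := hG j hj
    have hgT : HasTable (tperm (Gs.getD j [])) (Gs.getD j []) := hasTable_tperm hGperm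
    have hgM : tperm (Gs.getD j []) ∈ M24 := tperm_mem_M24 hGperm hGok
    have hXk : HasTable (tperm XT ^ (j + 1)) (powT XT (j + 1)) := hasTable_pow hXT _
    have hs : (tperm (Gs.getD j []))⁻¹ * n ∈ M24 ⊓ fixing [3, 2, 1, 0, 23] := by
      refine ⟨M24.mul_mem (M24.inv_mem hgM) (hHle hnH), ?_⟩
      intro c hc
      obtain ⟨i, hi, hic⟩ := hcov c hc
      have h1 : (tperm XT ^ i) (pt 23) = pt c := by
        rw [(hasTable_pow hXT i).apply_pt (by norm_num), hic]
      have h2 : n (pt c) = pt ((powT (powT XT (j + 1)) i).getD 23 0) := by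
        rw [← h1, ← Equiv.Perm.mul_apply, pow_rel hnk i, Equiv.Perm.mul_apply, hn23,
          (hasTable_pow hXk i).apply_pt (by norm_num)]
      have hc24 : c < 24 := by
        rw [← hic]
        exact (hasTable_pow hXT i).getD_lt 23
      have h3 : tperm (Gs.getD j []) (pt c) = pt ((powT (powT XT (j + 1)) i).getD 23 0) := by
        rw [hgT.apply_pt hc24, ← hic, hGimg i hi]
      show ((tperm (Gs.getD j []))⁻¹ * n) (pt c) = pt c
      rw [Equiv.Perm.mul_apply, h2, ← h3, Equiv.Perm.inv_eq_iff_eq]
    obtain ⟨w, hw, -, hsT⟩ := exists_word5 hs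
    have hnT : HasTable n (compT (Gs.getD j []) (prodT sgsTabs w)) := by
      have h1 := hasTable_mul hgT hsT
      rwa [mul_inv_cancel_left] at h1
    refine ⟨compT (Gs.getD j []) (prodT sgsTabs w), ?_, hnT⟩
    unfold candList
    rw [List.mem_flatMap]
    refine ⟨j, List.mem_range.mpr hj, ?_⟩
    rw [List.mem_filter]
    refine ⟨List.mem_map.mpr ⟨prodT sgsTabs w, List.mem_map.mpr ⟨w, hw, rfl⟩, rfl⟩, ?_⟩
    rw [beq_iff_eq]
    have h1 := hasTable_mul hnT hXT
    have h2 := hasTable_mul hXk hnT
    rw [hnk] at h1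
    exact h1.unique h2
  have hcard2 : Nat.card ↥((Subgroup.normalizer
      ((Subgroup.zpowers x : Subgroup ↥M24) : Set ↥M24)).map M24.subtype ⊓ fixing [23]) ≤
      (candList XT p Gs).length := by
    choose! f hf using hcand
    have hinj : Set.InjOn f (((Subgroup.normalizer
        ((Subgroup.zpowers x : Subgroup ↥M24) : Set ↥M24)).map M24.subtype ⊓ fixing [23] :
        Subgroup (Equiv.Perm GolayPt)) : Set (Equiv.Perm GolayPt)) := by
      intro a ha b hb hab
      have h1 := (hf a ha).2
      rw [hab] at h1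
      exact h1.eq_of_eq (hf b hb).2
    calc Nat.card ↥((Subgroup.normalizer
          ((Subgroup.zpowers x : Subgroup ↥M24) : Set ↥M24)).map M24.subtype ⊓ fixing [23])
        = (((Subgroup.normalizer
            ((Subgroup.zpowers x : Subgroup ↥M24) : Set ↥M24)).map M24.subtype ⊓ fixing [23] :
            Subgroup (Equiv.Perm GolayPt)) : Set (Equiv.Perm GolayPt)).ncard := rfl
      _ ≤ (((candList XT p Gs).toFinset : Finset (List ℕ)) : Set (List ℕ)).ncard :=
          Set.ncard_le_ncard_of_injOn f (fun a ha => by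
            rw [Finset.mem_coe, List.mem_toFinset]
            exact (hf a ha).1) hinj (Finset.finite_toSet _)
      _ = (candList XT p Gs).toFinset.card := Set.ncard_coe_finset _
      _ ≤ _ := List.toFinset_card_le _
  have h5 := card_inf_fixing ((Subgroup.normalizer
    ((Subgroup.zpowers x : Subgroup ↥M24) : Set ↥M24)).map M24.subtype) 23 []
  rw [inf_fixing_nil] at h5
  rw [← hcardH, h5]
  exact Nat.mul_le_mul horb hcard2

end Cfsg.Agent.Lib.Helper86.M24N
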