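import Mathlib
import Cfsg.Agent.Lib.Helper86.M24Norm

/-!
# Data for the normalizers of elements of order `5, 7, 11, 23` in `M₂₄` (helper86)
-/

set_option autoImplicit false
open Cfsg

namespace Cfsg.Agent.Lib.Helper86.M24N

open Cfsg.Agent.Lib.Helper9 Cfsg.Agent.Lib.Helper95

/-- Table of an element of order `5` with a cycle through the points `23, 0, 1, 2, 3`. -/
def xT5 : List ℕ :=
  [1, 2, 3, 23, 4, 5, 21, 18, 19, 11, 6, 16, 15, 7, 14, 9, 12, 17, 8, 13, 22, 20, 10, 0]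

/-- Elements of `M₂₄` realising the power maps on the first five points of that cycle. -/
def gT5 : List (List ℕ) :=
  [[0, 1, 2, 3, 4, 5, 6, 7, 8, 9, 10, 11, 12, 13, 14, 15, 16, 17, 18, 19, 20, 21, 22, 23],
   [1, 3, 0, 2, 10, 14, 18, 7, 15, 20, 4, 21, 12, 6, 5, 19, 8, 17, 22, 16, 11, 9, 13, 23],
   [2, 0, 3, 1, 7, 5, 16, 12, 22, 8, 4, 19, 10, 13, 17, 9, 11, 14, 18, 6, 21, 20, 15, 23],
   [3, 2, 1, 0, 19, 5, 21, 16, 4, 20, 8, 18, 15, 9, 14, 7, 12, 17, 6, 10, 22, 11, 13, 23]]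

/-- Table of an element of order `7` with a cycle through the points `23, 0, 1, 2, 3`. -/
def xT7 : List ℕ :=
  [1, 2, 3, 5, 4, 14, 15, 8, 6, 21, 13, 9, 11, 12, 23, 20, 10, 17, 22, 19, 18, 16, 7, 0]

/-- Elements of `M₂₄` realising the power maps on the first five points of that cycle. -/
def gT7 : List (List ℕ) :=
  [[0, 1, 2, 3, 4, 5, 6, 7, 8, 9, 10, 11, 12, 13, 14, 15, 16, 17, 18, 19, 20, 21, 22, 23],
   [1, 3, 14, 0, 15, 2, 8, 4, 6, 11, 13, 21, 9, 10, 5, 18, 19, 17, 20, 12, 22, 16, 7, 23],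
   [2, 14, 1, 5, 8, 0, 11, 7, 16, 6, 12, 18, 19, 13, 17, 10, 15, 3, 20, 4, 22, 9, 21, 23],
   [3, 0, 5, 1, 22, 17, 18, 13, 9, 10, 7, 15, 19, 16, 14, 20, 8, 2, 6, 12, 21, 4, 11, 23],
   [5, 2, 0, 14, 20, 17, 11, 10, 16, 9, 12, 15, 18, 13, 1, 22, 19, 3, 21, 6, 7, 4, 8, 23],
   [14, 5, 3, 2, 13, 1, 22, 19, 4, 10, 18, 11, 15, 8, 17, 6, 9, 0, 21, 12, 16, 20, 7, 23]]

/-- Table of an element of order `11` with a cycle through the points `23, 0, 1, 2, 3`. -/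
def xT11 : List ℕ :=
  [1, 2, 3, 4, 5, 12, 20, 13, 6, 16, 8, 9, 11, 14, 10, 15, 23, 7, 22, 18, 19, 21, 17, 0]

/-- Elements of `M₂₄` realising the power maps on the first five points of that cycle. -/
def gT11 : List (List ℕ) :=
  [[0, 1, 2, 3, 4, 5, 6, 7, 8, 9, 10, 11, 12, 13, 14, 15, 16, 17, 18, 19, 20, 21, 22, 23],
   [1, 3, 5, 11, 18, 12, 9, 10, 17, 16, 15, 14, 0, 8, 6, 20, 21, 7, 2, 22, 13, 4, 19, 23],
   [2, 5, 9, 0, 17, 12, 8, 6, 19, 11, 20, 14, 21, 13, 22, 18, 4, 7, 10, 1, 3, 16, 15, 23],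
   [3, 11, 0, 4, 14, 20, 8, 16, 7, 6, 18, 15, 2, 10, 1, 17, 9, 19, 13, 5, 21, 22, 12, 23],
   [4, 16, 3, 9, 7, 13, 1, 14, 15, 20, 21, 17, 10, 19, 11, 18, 5, 6, 0, 8, 22, 12, 2, 23],
   [5, 0, 12, 1, 9, 16, 17, 20, 14, 18, 3, 21, 8, 2, 19, 4, 22, 10, 6, 11, 13, 15, 7, 23],
   [12, 2, 16, 5, 8, 11, 6, 0, 18, 7, 17, 10, 4, 19, 14, 1, 22, 13, 9, 3, 15, 20, 21, 23],
   [11, 4, 1, 16, 8, 17, 3, 0, 13, 7, 9, 15, 10, 6, 5, 14, 21, 18, 12, 20, 2, 19, 22, 23],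
   [9, 12, 4, 2, 1, 10, 5, 8, 7, 14, 22, 3, 15, 0, 16, 21, 17, 18, 20, 19, 13, 11, 6, 23],
   [16, 9, 11, 12, 17, 20, 7, 15, 6, 8, 14, 3, 4, 19, 1, 18, 0, 22, 13, 5, 21, 10, 2, 23]]

/-- Table of an element of order `23` with a cycle through the points `23, 0, 1, 2, 3`. -/
def xT23 : List ℕ :=
  [1, 2, 3, 4, 8, 7, 21, 13, 17, 22, 11, 14, 5, 15, 12, 9, 16, 10, 23, 20, 6, 18, 19, 0]

/-- Elements of `M₂₄` realising the power maps on the first five points of that cycle. -/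
def gT23 : List (List ℕ) :=
  [[0, 1, 2, 3, 4, 5, 6, 7, 8, 9, 10, 11, 12, 13, 14, 15, 16, 17, 18, 19, 20, 21, 22, 23],
   [1, 3, 8, 10, 4, 13, 18, 21, 17, 2, 20, 9, 15, 12, 0, 7, 16, 6, 11, 5, 22, 19, 14, 23],
   [2, 8, 11, 5, 12, 17, 4, 20, 14, 13, 22, 3, 6, 18, 21, 9, 0, 7, 19, 15, 10, 16, 1, 23],
   [3, 10, 5, 9, 20, 4, 6, 14, 2, 11, 17, 8, 15, 7, 1, 13, 0, 22, 12, 16, 19, 18, 21, 23],
   [4, 14, 15, 6, 18, 8, 21, 5, 2, 1, 17, 12, 0, 16, 9, 22, 13, 10, 19, 11, 20, 3, 7, 23],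
   [8, 5, 19, 0, 22, 13, 4, 12, 1, 14, 15, 3, 18, 7, 20, 17, 6, 2, 21, 11, 16, 9, 10, 23],
   [17, 13, 21, 4, 18, 7, 19, 9, 12, 15, 16, 10, 0, 20, 3, 11, 5, 1, 2, 6, 22, 8, 14, 23],
   [10, 9, 0, 11, 16, 3, 17, 8, 20, 13, 4, 15, 1, 21, 12, 19, 22, 14, 2, 5, 7, 18, 6, 23],
   [11, 19, 3, 7, 17, 9, 8, 2, 16, 20, 1, 15, 18, 13, 21, 0, 10, 22, 12, 6, 4, 14, 5, 23],
   [14, 6, 17, 22, 16, 5, 19, 10, 18, 12, 15, 8, 7, 21, 11, 3, 2, 9, 1, 20, 13, 0, 4, 23],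
   [12, 18, 14, 21, 8, 2, 9, 1, 0, 6, 20, 17, 22, 19, 7, 11, 13, 3, 16, 15, 4, 5, 10, 23],
   [5, 0, 7, 1, 3, 4, 16, 13, 12, 11, 19, 2, 22, 10, 15, 18, 21, 8, 9, 17, 14, 6, 20, 23],
   [7, 2, 9, 8, 17, 18, 12, 0, 4, 16, 13, 11, 1, 6, 19, 20, 10, 15, 14, 5, 21, 22, 3, 23],
   [13, 4, 20, 14, 15, 3, 1, 8, 19, 11, 5, 16, 12, 6, 2, 22, 0, 10, 17, 18, 7, 9, 21, 23],
   [15, 17, 18, 13, 20, 19, 5, 3, 2, 12, 4, 10, 11, 9, 1, 21, 6, 0, 14, 7, 8, 22, 16, 23],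
   [9, 11, 1, 19, 8, 6, 16, 20, 0, 14, 2, 5, 21, 17, 10, 7, 15, 18, 13, 12, 4, 22, 3, 23],
   [22, 12, 4, 18, 15, 1, 17, 3, 0, 9, 14, 20, 10, 16, 7, 21, 6, 19, 8, 2, 13, 11, 5, 23],
   [19, 7, 10, 2, 5, 11, 13, 0, 14, 21, 17, 3, 15, 22, 20, 18, 6, 12, 1, 4, 16, 9, 8, 23],
   [20, 15, 12, 17, 2, 0, 16, 10, 9, 8, 6, 3, 4, 18, 5, 1, 13, 11, 7, 21, 19, 14, 22, 23],
   [6, 22, 13, 12, 14, 0, 9, 7, 3, 17, 18, 2, 5, 8, 19, 4, 20, 11, 21, 1, 10, 15, 16, 23],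
   [21, 20, 22, 15, 13, 5, 2, 14, 17, 16, 3, 6, 7, 19, 8, 18, 10, 9, 12, 0, 4, 11, 1, 23],
   [18, 21, 6, 20, 4, 2, 15, 19, 11, 12, 1, 3, 17, 7, 10, 13, 9, 8, 0, 22, 16, 14, 5, 23]]

/-- A four-group centralizing the element of order `5`. -/
def tT5 : List (List ℕ) :=
  [[0, 1, 2, 3, 4, 5, 6, 7, 8, 9, 10, 11, 12, 13, 14, 15, 16, 17, 18, 19, 20, 21, 22, 23],
   [6, 21, 20, 22, 17, 14, 0, 12, 9, 8, 23, 19, 7, 16, 5, 18, 13, 4, 15, 11, 2, 1, 3, 10],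
   [18, 8, 19, 13, 14, 17, 15, 23, 1, 21, 12, 20, 10, 3, 4, 6, 22, 5, 0, 2, 11, 9, 16, 7],
   [15, 9, 11, 16, 5, 4, 18, 10, 21, 1, 7, 2, 23, 22, 17, 0, 3, 14, 6, 20, 19, 8, 13, 12]]

/-- A group of order two centralizing the element of order `7`. -/
def tT7 : List (List ℕ) :=
  [[0, 1, 2, 3, 4, 5, 6, 7, 8, 9, 10, 11, 12, 13, 14, 15, 16, 17, 18, 19, 20, 21, 22, 23],
   [0, 1, 2, 3, 19, 5, 13, 16, 10, 18, 8, 20, 15, 6, 14, 12, 7, 17, 9, 4, 11, 22, 21, 23]]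


theorem normOK5 : normOK xT5 5 gT5 = true := by decide +kernel

theorem cnt5 : movedCnt xT5 * (candList xT5 5 gT5).length ≤ 240 := by decide +kernel

theorem normOK7 : normOK xT7 7 gT7 = true := by decide +kernel

theorem cnt7 : movedCnt xT7 * (candList xT7 7 gT7).length ≤ 126 := by decide +kernel

theorem normOK11 : normOK xT11 11 gT11 = true := by decide +kernel

theorem cnt11 : movedCnt xT11 * (candList xT11 11 gT11).length ≤ 110 := by decide +kernel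

theorem normOK23 : normOK xT23 23 gT23 = true := by decide +kernel

theorem cnt23 : movedCnt xT23 * (candList xT23 23 gT23).length ≤ 253 := by decide +kernel

/-- The decidable side conditions for a tabulated group centralizing the element with table
`XT`. -/
def centOK (XT : List ℕ) (L : List (List ℕ)) : Bool :=
  tabGroupOK L && L.all tableOK && L.all (fun T => compT XT T == compT T XT)

theorem normOK_perm {XT : List ℕ} {p : ℕ} {Gs : List (List ℕ)} (h : normOK XT p Gs = true) :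
    permOK XT = true := by
  simp only [normOK, Bool.and_eq_true] at h
  exact h.1.1.1.1.1.1

theorem normOK_mem {XT : List ℕ} {p : ℕ} {Gs : List (List ℕ)} (h : normOK XT p Gs = true) :
    tperm XT ∈ M24 := by
  have hperm := normOK_perm h
  simp only [normOK, Bool.and_eq_true] at h
  exact tperm_mem_M24 hperm h.1.1.1.1.1.2

theorem exists_cent (XT : List ℕ) (hperm : permOK XT = true) (L : List (List ℕ))
    (h : centOK XT L = true) (hnd : L.Nodup) (x : ↥M24)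
    (hx : (x : Equiv.Perm GolayPt) = tperm XT) :
    ∃ T : Subgroup ↥M24, T ≤ Subgroup.centralizer ({x} : Set ↥M24) ∧ Nat.card T = L.length := by
  simp only [centOK, Bool.and_eq_true, List.all_eq_true, beq_iff_eq] at h
  obtain ⟨⟨hgrp, hoks⟩, hcomm⟩ := h
  have hle : tabSubgroup L hgrp ≤ M24 := by
    rintro _ ⟨T, hT, rfl⟩
    exact tperm_mem_M24 (tabGroupOK_perm hgrp hT) (hoks T hT)
  refine ⟨(tabSubgroup L hgrp).subgroupOf M24, ?_, ?_⟩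
  · intro t ht
    rw [Subgroup.mem_subgroupOf] at ht
    obtain ⟨T, hT, hteq⟩ := ht
    rw [Subgroup.mem_centralizer_iff]
    intro y hy
    rw [Set.mem_singleton_iff] at hy
    subst hy
    apply Subtype.ext
    rw [Subgroup.coe_mul, Subgroup.coe_mul, hx, hteq, tperm_mul hperm (tabGroupOK_perm hgrp hT),
      tperm_mul (tabGroupOK_perm hgrp hT) hperm, hcomm T hT]
  · rw [Nat.card_congr (Subgroup.subgroupOfEquivOfLe hle).toEquiv, card_tabSubgroup L hgrp hnd]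

theorem centOK5 : centOK xT5 tT5 = true := by decide +kernel

theorem centOK7 : centOK xT7 tT7 = true := by decide +kernel

/-- An element of order `23` of `M₂₄` whose cyclic group has normalizer of order at most
`253`. -/
theorem exists_order23 : ∃ x : ↥M24, orderOf x = 23 ∧
    Nat.card ↥(Subgroup.normalizer ((Subgroup.zpowers x : Subgroup ↥M24) : Set ↥M24)) ≤ 253 := by
  have : Fact (Nat.Prime 23) := ⟨by norm_num⟩
  obtain ⟨h1, h2⟩ := card_normalizer_le xT23 23 gT23 normOK23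
    ⟨tperm xT23, normOK_mem normOK23⟩ rfl
  exact ⟨_, h1, h2.trans cnt23⟩

/-- An element of order `11` of `M₂₄` whose cyclic group has normalizer of order at most
`110`. -/
theorem exists_order11 : ∃ x : ↥M24, orderOf x = 11 ∧
    Nat.card ↥(Subgroup.normalizer ((Subgroup.zpowers x : Subgroup ↥M24) : Set ↥M24)) ≤ 110 := by
  have : Fact (Nat.Prime 11) := ⟨by norm_num⟩
  obtain ⟨h1, h2⟩ := card_normalizer_le xT11 11 gT11 normOK11
    ⟨tperm xT11, normOK_mem normOK11⟩ rfl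
  exact ⟨_, h1, h2.trans cnt11⟩

/-- An element of order `5` of `M₂₄` whose cyclic group has normalizer of order at most `240`,
centralized by a four-group. -/
theorem exists_order5 : ∃ (x : ↥M24) (T : Subgroup ↥M24), orderOf x = 5 ∧
    Nat.card ↥(Subgroup.normalizer ((Subgroup.zpowers x : Subgroup ↥M24) : Set ↥M24)) ≤ 240 ∧
    T ≤ Subgroup.centralizer ({x} : Set ↥M24) ∧ Nat.card T = 4 := by
  have : Fact (Nat.Prime 5) := ⟨by norm_num⟩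
  obtain ⟨h1, h2⟩ := card_normalizer_le xT5 5 gT5 normOK5
    ⟨tperm xT5, normOK_mem normOK5⟩ rfl
  obtain ⟨T, hT1, hT2⟩ := exists_cent xT5 (normOK_perm normOK5) tT5 centOK5 (by decide)
    ⟨tperm xT5, normOK_mem normOK5⟩ rfl
  exact ⟨_, T, h1, h2.trans cnt5, hT1, hT2⟩

/-- An element of order `7` of `M₂₄` whose cyclic group has normalizer of order at most `126`,
centralized by an involution. -/
theorem exists_order7 : ∃ (x : ↥M24) (T : Subgroup ↥M24), orderOf x = 7 ∧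
    Nat.card ↥(Subgroup.normalizer ((Subgroup.zpowers x : Subgroup ↥M24) : Set ↥M24)) ≤ 126 ∧
    T ≤ Subgroup.centralizer ({x} : Set ↥M24) ∧ Nat.card T = 2 := by
  have : Fact (Nat.Prime 7) := ⟨by norm_num⟩
  obtain ⟨h1, h2⟩ := card_normalizer_le xT7 7 gT7 normOK7
    ⟨tperm xT7, normOK_mem normOK7⟩ rfl
  obtain ⟨T, hT1, hT2⟩ := exists_cent xT7 (normOK_perm normOK7) tT7 centOK7 (by decide)
    ⟨tperm xT7, normOK_mem normOK7⟩ rfl
  exact ⟨_, T, h1, h2.trans cnt7, hT1, hT2⟩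

end Cfsg.Agent.Lib.Helper86.M24N
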