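import Mathlib
import Cfsg.Agent.Lib.Helper83.Ortho
import Cfsg.Agent.Lib.Helper83.Central
import Cfsg.Agent.Lib.Helper83.Quot
import Cfsg.Agent.Lib.Helper84.Gagola
import Cfsg.Agent.Lib.Helper4.BrRing
import Cfsg.Agent.Lib.Helper4.CharSimple
import Cfsg.Agent.Lib.Helper20.Ito

/-!
# Characters of `p'`-degree and `p`-group actions

Orbit sums modulo `p` for the action of a `p`-group, sums over cosets, and their use for the
kernels of the irreducible characters of degree prime to `p`.
-/

set_option autoImplicit false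
set_option linter.unusedSimpArgs false
set_option linter.unusedVariables false
set_option linter.style.haveILetI false

namespace Cfsg.Agent.Lib.Helper86

open Cfsg
open scoped ComplexConjugate

/-- A `p`-group acts on a finite set; an invariant function with algebraic integer values that
vanishes on the fixed points has sum divisible by `p`. -/
theorem sum_eq_p_mul_of_fixed_zero {Q X : Type*} [Group Q] [Finite Q] [Fintype X] [MulAction Q X]
    (p : ℕ) [hp : Fact p.Prime] (hQ : IsPGroup p Q) (g : X → ℂ)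
    (hg : ∀ (q : Q) (x : X), g (q • x) = g x) (hint : ∀ x, IsIntegral ℤ (g x))
    (h0 : ∀ x, (∀ q : Q, q • x = x) → g x = 0) :
    ∃ α : ℂ, IsIntegral ℤ α ∧ ∑ x, g x = (p : ℂ) * α := by
  classical
  haveI : Fintype (MulAction.orbitRel.Quotient Q X) := Fintype.ofFinite _
  have h1 : ∑ x, g x = ∑ ω : MulAction.orbitRel.Quotient Q X,
      ∑ x ∈ Finset.univ.filter
        (fun x => (Quotient.mk'' x : MulAction.orbitRel.Quotient Q X) = ω), g x :=
    (Finset.sum_fiberwise _ _ _).symm
  have h2 : ∀ ω : MulAction.orbitRel.Quotient Q X, ∃ α : ℂ, IsIntegral ℤ α ∧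
      ∑ x ∈ Finset.univ.filter
        (fun x => (Quotient.mk'' x : MulAction.orbitRel.Quotient Q X) = ω), g x
        = (p : ℂ) * α := by
    intro ω
    induction ω using Quotient.inductionOn' with
    | h x₀ =>
      have hmem : ∀ x, (Quotient.mk'' x : MulAction.orbitRel.Quotient Q X) = Quotient.mk'' x₀ ↔
          x ∈ MulAction.orbit Q x₀ := fun x => Quotient.eq''
      have hconst : ∀ x ∈ Finset.univ.filter
          (fun x => (Quotient.mk'' x : MulAction.orbitRel.Quotient Q X) = Quotient.mk'' x₀),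
          g x = g x₀ := by
        intro x hx
        obtain ⟨q, rfl⟩ := (hmem x).mp (Finset.mem_filter.mp hx).2
        exact hg q x₀
      rw [Finset.sum_congr rfl hconst, Finset.sum_const, nsmul_eq_mul]
      have hcard : (Finset.univ.filter
          (fun x => (Quotient.mk'' x : MulAction.orbitRel.Quotient Q X) = Quotient.mk'' x₀)).card
          = Nat.card (MulAction.orbit Q x₀) := by
        rw [Nat.card_eq_fintype_card, ← Set.toFinset_card]
        congr 1
        ext x
        simp [hmem]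
      obtain ⟨n, hn⟩ := hQ.card_orbit x₀
      rw [hcard, hn]
      rcases Nat.eq_zero_or_pos n with hn0 | hpos
      · have hone : Nat.card (MulAction.orbit Q x₀) = 1 := by rw [hn, hn0, pow_zero]
        have hsub : Subsingleton (MulAction.orbit Q x₀) :=
          (Nat.card_eq_one_iff_unique.mp hone).1
        have hfix : ∀ q : Q, q • x₀ = x₀ := by
          intro q
          have := hsub.elim ⟨q • x₀, MulAction.mem_orbit x₀ q⟩ ⟨x₀, MulAction.mem_orbit_self x₀⟩
          exact congrArg Subtype.val this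
        rw [h0 x₀ hfix]
        exact ⟨0, isIntegral_zero, by simp⟩
      · refine ⟨((p ^ (n - 1) : ℕ) : ℂ) * g x₀, IsIntegral.mul isIntegral_algebraMap (hint x₀), ?_⟩
        have : p ^ n = p * p ^ (n - 1) := by
          rw [← pow_succ']
          congr 1
          omega
        rw [this]
        push_cast
        ring
  choose α hα1 hα2 using h2
  refine ⟨∑ ω, α ω, IsIntegral.sum _ (fun ω _ => hα1 ω), ?_⟩
  rw [h1, Finset.mul_sum]
  exact Finset.sum_congr rfl (fun ω _ => hα2 ω)

/-- The bijection `(G ⧸ Y) × Y ≃ G`, `(q, h) ↦ q.out * h`. -/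
noncomputable def cosetProdEquiv {G : Type*} [Group G] (Y : Subgroup G) : (G ⧸ Y) × Y ≃ G where
  toFun x := x.1.out * (x.2 : G)
  invFun g := (QuotientGroup.mk g, ⟨(QuotientGroup.mk g : G ⧸ Y).out⁻¹ * g, by
    rw [← QuotientGroup.eq]
    exact QuotientGroup.out_eq' _⟩)
  left_inv := by
    rintro ⟨q, h⟩
    have hq : (QuotientGroup.mk (q.out * (h : G)) : G ⧸ Y) = q := by
      rw [QuotientGroup.mk_mul_of_mem _ h.2, QuotientGroup.out_eq']
    refine Prod.ext hq (Subtype.ext ?_)
    show (QuotientGroup.mk (q.out * (h : G)) : G ⧸ Y).out⁻¹ * (q.out * (h : G)) = h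
    rw [hq, inv_mul_cancel_left]
  right_inv := by
    intro g
    show (QuotientGroup.mk g : G ⧸ Y).out * ((QuotientGroup.mk g : G ⧸ Y).out⁻¹ * g) = g
    rw [mul_inv_cancel_left]

/-- Sum over a subgroup `R`, cut into cosets of a smaller subgroup `Y`. -/
theorem sum_mem_eq_natCast_mul {G : Type*} [Group G] [Fintype G] (R Y : Subgroup G) (hYR : Y ≤ R)
    [Fintype Y] [DecidablePred (· ∈ R)] (F : G → ℂ) (s : ℂ)
    (hs : ∀ g ∈ R, ∑ h : Y, F (g * h) = s) :
    ∃ c : ℕ, c ≠ 0 ∧ ∑ g : G, (if g ∈ R then F g else 0) = (c : ℂ) * s := by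
  classical
  haveI : Fintype (G ⧸ Y) := Fintype.ofFinite _
  have h1 : ∑ g : G, (if g ∈ R then F g else 0) =
      ∑ q : G ⧸ Y, ∑ h : Y, (if q.out * (h : G) ∈ R then F (q.out * (h : G)) else 0) := by
    rw [← Fintype.sum_prod_type']
    exact (Fintype.sum_equiv (cosetProdEquiv Y) _ _ (fun x => rfl)).symm
  have h2 : ∀ q : G ⧸ Y, ∑ h : Y, (if q.out * (h : G) ∈ R then F (q.out * (h : G)) else 0) =
      if q.out ∈ R then s else 0 := by
    intro q
    by_cases hq : q.out ∈ R
    · rw [if_pos hq, ← hs _ hq]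
      refine Finset.sum_congr rfl (fun h _ => ?_)
      rw [if_pos (R.mul_mem hq (hYR h.2))]
    · rw [if_neg hq]
      refine Finset.sum_eq_zero (fun h _ => ?_)
      rw [if_neg]
      intro hmem
      apply hq
      have := R.mul_mem hmem (R.inv_mem (hYR h.2))
      rwa [mul_inv_cancel_right] at this
  refine ⟨(Finset.univ.filter (fun q : G ⧸ Y => q.out ∈ R)).card, ?_, ?_⟩
  · rw [Finset.card_ne_zero]
    refine ⟨QuotientGroup.mk 1, ?_⟩
    rw [Finset.mem_filter]
    refine ⟨Finset.mem_univ _, ?_⟩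
    obtain ⟨h, hh⟩ := QuotientGroup.mk_out_eq_mul Y (1 : G)
    rw [hh, one_mul]
    exact hYR h.2
  · rw [h1, Finset.sum_congr rfl (fun q _ => h2 q), ← Finset.sum_filter, Finset.sum_const,
      nsmul_eq_mul]

/-- Elements of the kernel of a character do not change its values. -/
theorem irr_mul_of_mem_ker {G : Type*} [Group G] [Finite G] {χ : G → ℂ} (hχ : IsIrrCharacter G χ)
    {k : G} (hk : χ k = χ 1) (g : G) : χ (k * g) = χ g := by
  obtain ⟨n, ρ, -, rfl⟩ := hχ
  have h1 := Helper83.rho_eq_one_of_char_eq ρ k hk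
  show LinearMap.trace ℂ _ (ρ (k * g)) = LinearMap.trace ℂ _ (ρ g)
  rw [map_mul, h1, one_mul]

/-- Decomposition of the restriction of an irreducible character to a subgroup. -/
theorem res_decomp {G : Type*} [Group G] [Fintype G] (χ : IrrCharacter G) (K : Subgroup G)
    [Fintype K] [Fintype (IrrCharacter K)] :
    ∃ m : IrrCharacter K → ℕ,
      (∀ k : K, (χ : G → ℂ) k = ∑ θ : IrrCharacter K, (m θ : ℂ) * (θ : K → ℂ) k) ∧
      charDegree (χ : G → ℂ) = ∑ θ : IrrCharacter K, m θ * charDegree (θ : K → ℂ) ∧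
      ∀ θ : IrrCharacter K, classInner (fun k : K => (χ : G → ℂ) k) (θ : K → ℂ) = (m θ : ℂ) := by
  classical
  obtain ⟨m, hm, -, hdeg⟩ := Helper83.restrict_decomp χ K
  refine ⟨m, hm, hdeg, fun θ => ?_⟩
  have h1 : (fun k : K => (χ : G → ℂ) k) = ∑ θ : IrrCharacter K, (m θ : ℂ) • (θ : K → ℂ) := by
    funext k
    rw [hm k, Finset.sum_apply]
    rfl
  rw [h1]
  exact Helper4.classInner_sum_irr (fun θ => (m θ : ℂ)) θ

/-- The action of a subgroup on the irreducible characters of a normal subgroup. -/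
@[instance_reducible]
noncomputable def irrAct {G : Type*} [Group G] (N : Subgroup G) [N.Normal] (Q : Subgroup G) :
    MulAction Q (IrrCharacter N) where
  smul x θ := ⟨Helper20.conjFun N (θ : N → ℂ) (x : G)⁻¹, Helper20.conjFun_irr N θ.2 _⟩
  one_smul θ := by
    apply Subtype.ext
    show Helper20.conjFun N (θ : N → ℂ) ((1 : Q) : G)⁻¹ = θ
    rw [Subgroup.coe_one, inv_one, Helper20.conjFun_one]
  mul_smul x y θ := by
    apply Subtype.ext
    show Helper20.conjFun N (θ : N → ℂ) ((x * y : Q) : G)⁻¹ =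
      Helper20.conjFun N (Helper20.conjFun N (θ : N → ℂ) (y : G)⁻¹) (x : G)⁻¹
    rw [Helper20.conjFun_conjFun, Subgroup.coe_mul, mul_inv_rev]

/-- A nonprincipal irreducible character of a normal subgroup `N`, invariant under a `p`-group
`Q` with `C_N(Q) = 1`, has degree divisible by `p`. -/
theorem dvd_degree_of_invariant {G : Type*} [Group G] [Fintype G] (p : ℕ) [Fact p.Prime]
    (N : Subgroup G) [hN : N.Normal] [Fintype N] (Q : Subgroup G) (hQ : IsPGroup p Q)
    (hNQ : N ⊓ Subgroup.centralizer (Q : Set G) = ⊥) (θ : IrrCharacter N)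
    (hinv : ∀ x ∈ Q, Helper20.conjFun N (θ : N → ℂ) x = θ)
    (hne : ∑ n : N, (θ : N → ℂ) n = 0) : p ∣ charDegree (θ : N → ℂ) := by
  classical
  letI : MulAction Q N := MulAction.compHom N ((MulAut.conjNormal (H := N)).comp Q.subtype)
  have hsmul : ∀ (q : Q) (n : N), ((q • n : N) : G) = (q : G) * n * (q : G)⁻¹ := fun q n => rfl
  have hθinv : ∀ (q : Q) (n : N), (θ : N → ℂ) (q • n) = (θ : N → ℂ) n := by
    intro q n
    have h1 := congrFun (hinv q q.2) n
    rw [Helper20.conjFun_apply] at h1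
    rw [← h1]
    exact congrArg (θ : N → ℂ) (Subtype.ext (hsmul q n))
  have hone : ∀ (q : Q) (n : N), q • n = 1 ↔ n = 1 := by
    intro q n
    constructor
    · intro h
      have h1 := congrArg Subtype.val h
      rw [hsmul] at h1
      apply Subtype.ext
      have h2 : (n : G) = (q : G)⁻¹ * ((q : G) * n * (q : G)⁻¹) * (q : G) := by group
      rw [h2, h1]
      simp
    · rintro rfl
      apply Subtype.ext
      rw [hsmul]
      simp
  obtain ⟨α, hα, hsum⟩ := sum_eq_p_mul_of_fixed_zero p (Q := Q) (X := N) hQ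
    (fun n => if n = 1 then 0 else (θ : N → ℂ) n)
    (fun q n => by
      show (if q • n = 1 then 0 else (θ : N → ℂ) (q • n)) = if n = 1 then 0 else (θ : N → ℂ) n
      by_cases h : n = 1
      · rw [if_pos h, if_pos ((hone q n).mpr h)]
      · rw [if_neg h, if_neg (fun h' => h ((hone q n).mp h')), hθinv])
    (fun n => by
      show IsIntegral ℤ (if n = 1 then 0 else (θ : N → ℂ) n)
      split_ifs
      · exact isIntegral_zero
      · exact Helper4.irr_isIntegral θ n)
    (fun n hfix => by
      show (if n = 1 then 0 else (θ : N → ℂ) n) = 0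
      rw [if_pos]
      have hmem : (n : G) ∈ N ⊓ Subgroup.centralizer (Q : Set G) := by
        refine Subgroup.mem_inf.mpr ⟨n.2, ?_⟩
        rw [Subgroup.mem_centralizer_iff]
        intro q hq
        have h1 := congrArg Subtype.val (hfix ⟨q, hq⟩)
        rw [hsmul] at h1
        show q * (n : G) = (n : G) * q
        have h2 : q * (n : G) = (q * (n : G) * q⁻¹) * q := by group
        rw [h2]
        exact congrArg (· * q) h1
      rw [hNQ, Subgroup.mem_bot] at hmem
      exact Subtype.ext hmem)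
  have h1 : ∑ n : N, (if n = 1 then 0 else (θ : N → ℂ) n) = -(θ : N → ℂ) 1 := by
    have h2 : ∀ n : N, (if n = 1 then 0 else (θ : N → ℂ) n) =
        (θ : N → ℂ) n - (if n = 1 then (θ : N → ℂ) 1 else 0) := by
      intro n
      split_ifs with h
      · rw [h, sub_self]
      · rw [sub_zero]
    rw [Finset.sum_congr rfl (fun n _ => h2 n), Finset.sum_sub_distrib, hne,
      Finset.sum_ite_eq' Finset.univ (1 : N) (fun _ => (θ : N → ℂ) 1), if_pos (Finset.mem_univ _),
      zero_sub]
  have hdeg := (Helper83.irr_degree θ.2).2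
  have h3 : (((charDegree (θ : N → ℂ) : ℕ) : ℤ) : ℂ) = (p : ℂ) * (-α) := by
    push_cast
    rw [← hdeg]
    have := hsum
    rw [h1] at this
    linear_combination -this
  have h4 := Helper4.int_dvd_of_eq_mul_isIntegral p (Fact.out : p.Prime).ne_zero _ _ hα.neg h3
  exact_mod_cast h4

/-- A normal subgroup `N` with `C_N(P) = 1` for a `p`-subgroup `P` lies in the kernel of every
irreducible character of degree prime to `p`. -/
theorem mem_ker_of_centralizer_inf_eq_bot {G : Type*} [Group G] [Fintype G] (p : ℕ)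
    [Fact p.Prime] (P : Subgroup G) (hP : IsPGroup p P) (N : Subgroup G) [hN : N.Normal]
    (hNP : N ⊓ Subgroup.centralizer (P : Set G) = ⊥) (χ : IrrCharacter G)
    (hχ : ¬ p ∣ charDegree (χ : G → ℂ)) : ∀ n ∈ N, (χ : G → ℂ) n = (χ : G → ℂ) 1 := by
  classical
  haveI : Fintype N := Fintype.ofFinite _
  have : Finite (IrrCharacter N) := Helper4.irr_finite
  haveI : Fintype (IrrCharacter N) := Fintype.ofFinite _
  obtain ⟨m, hm, hdeg, hin⟩ := res_decomp χ N
  letI : MulAction P (IrrCharacter N) := irrAct N P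
  have hsmul : ∀ (x : P) (θ : IrrCharacter N), ((x • θ : IrrCharacter N) : N → ℂ) =
      Helper20.conjFun N (θ : N → ℂ) (x : G)⁻¹ := fun x θ => rfl
  have hcfχ : IsClassFunction G (χ : G → ℂ) :=
    Helper35.isClassFunction_of_isCharacter (Helper35.isChar_of_irr χ.2)
  have hminv : ∀ (x : P) (θ : IrrCharacter N), m (x • θ) = m θ := by
    intro x θ
    have h1 := Helper20.classInner_res_conjFun N hcfχ (θ : N → ℂ) (x : G)⁻¹
    rw [← hsmul, hin, hin] at h1
    exact_mod_cast h1
  have hdinv : ∀ (x : P) (θ : IrrCharacter N),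
      charDegree ((x • θ : IrrCharacter N) : N → ℂ) = charDegree (θ : N → ℂ) := by
    intro x θ
    have h1 : ((x • θ : IrrCharacter N) : N → ℂ) 1 = (θ : N → ℂ) 1 := by
      rw [hsmul, Helper20.conjFun_apply]
      refine congrArg (θ : N → ℂ) (Subtype.ext ?_)
      simp
    unfold charDegree
    rw [h1]
  obtain ⟨t, ht⟩ : ∃ t : IrrCharacter N, t = Helper83.trivIrr N := ⟨_, rfl⟩
  have htval : ∀ n : N, (t : N → ℂ) n = 1 := fun n => by rw [ht]; rfl
  have htfix : ∀ x : P, x • t = t := by
    intro x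
    apply Subtype.ext
    rw [hsmul]
    funext n
    rw [Helper20.conjFun_apply, htval, htval]
  have ht_iff : ∀ (x : P) (θ : IrrCharacter N), x • θ = t ↔ θ = t := by
    intro x θ
    constructor
    · intro h
      rw [← htfix x] at h
      exact MulAction.injective x h
    · rintro rfl
      exact htfix x
  have hsum0 : ∀ θ : IrrCharacter N, θ ≠ t → ∑ n : N, (θ : N → ℂ) n = 0 := by
    intro θ hθ
    have h1 := Helper83.irr_orthonormal θ t
    rw [if_neg hθ] at h1
    unfold classInner at h1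
    have hc : (Nat.card N : ℂ) ≠ 0 := by exact_mod_cast Nat.card_pos.ne'
    have h2 := (mul_eq_zero.mp h1).resolve_left (inv_ne_zero hc)
    rw [← h2]
    refine Finset.sum_congr rfl (fun n _ => ?_)
    rw [htval]
    simp
  obtain ⟨α, hα, hsum⟩ := sum_eq_p_mul_of_fixed_zero p (Q := P) (X := IrrCharacter N) hP
    (fun θ => if θ = t ∨ p ∣ charDegree (θ : N → ℂ) then 0
      else ((m θ * charDegree (θ : N → ℂ) : ℕ) : ℂ))
    (fun x θ => by
      show (if x • θ = t ∨ p ∣ charDegree ((x • θ : IrrCharacter N) : N → ℂ) then 0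
        else ((m (x • θ) * charDegree ((x • θ : IrrCharacter N) : N → ℂ) : ℕ) : ℂ)) = _
      rw [hminv, hdinv]
      by_cases h : θ = t ∨ p ∣ charDegree (θ : N → ℂ)
      · rw [if_pos h, if_pos (h.imp (ht_iff x θ).mpr id)]
      · rw [if_neg h, if_neg (fun h' => h (h'.imp (ht_iff x θ).mp id))])
    (fun θ => by
      show IsIntegral ℤ (if θ = t ∨ p ∣ charDegree (θ : N → ℂ) then (0 : ℂ)
        else ((m θ * charDegree (θ : N → ℂ) : ℕ) : ℂ))
      split_ifs
      · exact isIntegral_zero
      · exact isIntegral_algebraMap)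
    (fun θ hfix => by
      show (if θ = t ∨ p ∣ charDegree (θ : N → ℂ) then (0 : ℂ)
        else ((m θ * charDegree (θ : N → ℂ) : ℕ) : ℂ)) = 0
      rw [if_pos]
      by_cases hθ : θ = t
      · exact Or.inl hθ
      · right
        refine dvd_degree_of_invariant p N P hP hNP θ ?_ (hsum0 θ hθ)
        intro x hx
        have h1 := congrArg Subtype.val (hfix ⟨x⁻¹, P.inv_mem hx⟩)
        rw [hsmul] at h1
        simpa using h1)
  have hS1 : p ∣ ∑ θ : IrrCharacter N, (if θ = t ∨ p ∣ charDegree (θ : N → ℂ) then 0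
      else m θ * charDegree (θ : N → ℂ)) := by
    have h3 : (((∑ θ : IrrCharacter N, (if θ = t ∨ p ∣ charDegree (θ : N → ℂ) then 0
        else m θ * charDegree (θ : N → ℂ)) : ℕ) : ℤ) : ℂ) = (p : ℂ) * α := by
      rw [← hsum]
      push_cast
      refine Finset.sum_congr rfl (fun θ _ => ?_)
      split_ifs <;> simp
    have h4 := Helper4.int_dvd_of_eq_mul_isIntegral p (Fact.out : p.Prime).ne_zero _ _ hα h3
    exact_mod_cast h4
  have hmt : m t ≠ 0 := by
    intro h0
    apply hχ
    rw [hdeg]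
    have hsplit : ∑ θ : IrrCharacter N, m θ * charDegree (θ : N → ℂ) =
        ∑ θ : IrrCharacter N, (if θ = t ∨ p ∣ charDegree (θ : N → ℂ) then 0
          else m θ * charDegree (θ : N → ℂ)) +
        ∑ θ : IrrCharacter N, (if θ = t ∨ p ∣ charDegree (θ : N → ℂ)
          then m θ * charDegree (θ : N → ℂ) else 0) := by
      rw [← Finset.sum_add_distrib]
      refine Finset.sum_congr rfl (fun θ _ => ?_)
      split_ifs <;> simp
    rw [hsplit]
    refine dvd_add hS1 (Finset.dvd_sum (fun θ _ => ?_))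
    split_ifs with h
    · rcases h with h | h
      · rw [h, h0, zero_mul]
        exact dvd_zero p
      · exact Dvd.dvd.mul_left h _
    · exact dvd_zero p
  have hsumN : ∑ n : N, (χ : G → ℂ) (1 * (n : G)) = (m t : ℂ) * (Nat.card N : ℂ) := by
    simp only [one_mul]
    rw [Finset.sum_congr rfl (fun n _ => hm n), Finset.sum_comm, Finset.sum_eq_single t]
    · rw [← Finset.mul_sum]
      congr 1
      simp [htval]
    · intro θ _ hθ
      rw [← Finset.mul_sum, hsum0 θ hθ, mul_zero]
    · intro h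
      exact absurd (Finset.mem_univ t) h
  intro n hn
  by_contra hne
  have h0 := Helper83.irr_sum_normal_eq_zero N χ.2 n hn hne 1
  rw [hsumN] at h0
  rcases mul_eq_zero.mp h0 with h | h
  · exact hmt (by exact_mod_cast h)
  · exact (Nat.card_pos (α := N)).ne' (by exact_mod_cast h)

/-- For an irreducible character `χ` of degree prime to `p` and a `p`-subgroup `P`, the sum of
`χ` over the derived subgroup of `P` is not zero (`χ` has a linear constituent on `P`). -/
theorem sum_commutator_ne_zero {G : Type*} [Group G] [Fintype G] (p : ℕ) [Fact p.Prime]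
    (P : Subgroup G) (hP : IsPGroup p P) [Fintype P] [Fintype (commutator P)]
    (χ : IrrCharacter G) (hχ : ¬ p ∣ charDegree (χ : G → ℂ)) :
    ∑ c : commutator P, (χ : G → ℂ) ((c : P) : G) ≠ 0 := by
  classical
  have : Finite (IrrCharacter P) := Helper4.irr_finite
  haveI : Fintype (IrrCharacter P) := Fintype.ofFinite _
  obtain ⟨m, hm, hdeg, hin⟩ := res_decomp χ P
  have hr : ∀ η : IrrCharacter P, ∃ r : ℕ,
      (∑ c : commutator P, (η : P → ℂ) (c : P) = (Nat.card (commutator P) : ℂ) * r) ∧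
      ((η : P → ℂ) 1 = 1 → r = 1) := by
    intro η
    by_cases hk : ∀ x ∈ commutator P, (η : P → ℂ) x = (η : P → ℂ) 1
    · refine ⟨charDegree (η : P → ℂ), ?_, ?_⟩
      · rw [Finset.sum_congr rfl (fun (c : commutator P) _ => hk (c : P) c.2), Finset.sum_const,
          nsmul_eq_mul,
          (Helper83.irr_degree η.2).2, Finset.card_univ, Nat.card_eq_fintype_card]
      · intro h1
        have := (Helper83.irr_degree η.2).2
        rw [h1] at this
        exact_mod_cast this.symm
    · push Not at hk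
      obtain ⟨x, hx, hx1⟩ := hk
      refine ⟨0, ?_, ?_⟩
      · have := Helper83.irr_sum_normal_eq_zero (commutator P) η.2 x hx hx1 1
        simp only [one_mul] at this
        rw [this]
        simp
      · intro h1
        exfalso
        apply hx1
        rw [h1]
        exact Helper83.irr_linear_commutator η.2 h1 hx
  choose r hr1 hr2 using hr
  have hpdeg : ∀ η : IrrCharacter P, (η : P → ℂ) 1 ≠ 1 → p ∣ charDegree (η : P → ℂ) := by
    intro η hη1
    have hdvd := Helper83.irr_degree_dvd_card η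
    obtain ⟨k, hk⟩ := IsPGroup.iff_card.mp hP
    rw [hk] at hdvd
    obtain ⟨j, hj, hj2⟩ := (Nat.dvd_prime_pow (Fact.out : p.Prime)).mp hdvd
    rw [hj2]
    rcases Nat.eq_zero_or_pos j with h0 | h0
    · exfalso
      apply hη1
      rw [(Helper83.irr_degree η.2).2, hj2, h0]
      simp
    · exact dvd_pow_self p h0.ne'
  have hex : ∃ η : IrrCharacter P, (η : P → ℂ) 1 = 1 ∧ m η ≠ 0 := by
    by_contra hcon
    push Not at hcon
    apply hχ
    rw [hdeg]
    refine Finset.dvd_sum (fun η _ => ?_)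
    by_cases h1 : (η : P → ℂ) 1 = 1
    · rw [hcon η h1, zero_mul]
      exact dvd_zero p
    · exact Dvd.dvd.mul_left (hpdeg η h1) _
  obtain ⟨η₀, h1, hm0⟩ := hex
  have hsum : ∑ c : commutator P, (χ : G → ℂ) ((c : P) : G) =
      (Nat.card (commutator P) : ℂ) * ((∑ η : IrrCharacter P, m η * r η : ℕ) : ℂ) := by
    rw [Finset.sum_congr rfl (fun (c : commutator P) _ => hm (c : P)), Finset.sum_comm]
    push_cast
    rw [Finset.mul_sum]
    refine Finset.sum_congr rfl (fun η _ => ?_)
    rw [← Finset.mul_sum, hr1 η]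
    ring
  rw [hsum]
  refine mul_ne_zero (by exact_mod_cast Nat.card_pos.ne') ?_
  have hpos : 0 < ∑ η : IrrCharacter P, m η * r η := by
    refine lt_of_lt_of_le ?_
      (Finset.single_le_sum (fun η _ => Nat.zero_le _) (Finset.mem_univ η₀))
    rw [hr2 η₀ h1, mul_one]
    exact Nat.pos_of_ne_zero hm0
  exact_mod_cast hpos.ne'

/-- The normal core of `N P'` lies in the kernel of every irreducible character of degree prime
to `p`, when `N` is normal with `C_N(P) = 1`. -/
theorem mem_ker_of_mem_core {G : Type*} [Group G] [Fintype G] (p : ℕ) [Fact p.Prime]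
    (P : Subgroup G) (hP : IsPGroup p P) (N : Subgroup G) [hN : N.Normal]
    (hNP : N ⊓ Subgroup.centralizer (P : Set G) = ⊥) (χ : IrrCharacter G)
    (hχ : ¬ p ∣ charDegree (χ : G → ℂ)) :
    ∀ g ∈ (N ⊔ ⁅P, P⁆).normalCore, (χ : G → ℂ) g = (χ : G → ℂ) 1 := by
  classical
  intro g hg
  by_contra hne
  haveI : Fintype P := Fintype.ofFinite _
  haveI : Fintype (commutator P) := Fintype.ofFinite _
  obtain ⟨Kχ, hKχ⟩ : ∃ K : Subgroup G, K = Helper83.irrKer χ := ⟨_, rfl⟩
  haveI hKn : Kχ.Normal := hKχ ▸ inferInstance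
  have hmemK : ∀ x, x ∈ Kχ ↔ (χ : G → ℂ) x = (χ : G → ℂ) 1 := fun x => by
    rw [hKχ]
    exact Helper83.mem_irrKer χ x
  have hNK : N ≤ Kχ := fun n hn =>
    (hmemK n).mpr (mem_ker_of_centralizer_inf_eq_bot p P hP N hNP χ hχ n hn)
  have hYcomm : ⁅P, P⁆ = (commutator P).map P.subtype := (Subgroup.map_subtype_commutator P).symm
  obtain ⟨M, hM⟩ : ∃ M : Subgroup G, M = (N ⊔ ⁅P, P⁆).normalCore := ⟨_, rfl⟩
  haveI hMn : M.Normal := hM ▸ Subgroup.normalCore_normal _
  obtain ⟨R, hR⟩ : ∃ R : Subgroup G, R = Kχ ⊔ (commutator P).map P.subtype := ⟨_, rfl⟩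
  have hMR : M ≤ R := by
    rw [hM, hR]
    exact (Subgroup.normalCore_le _).trans
      (sup_le (hNK.trans le_sup_left) (hYcomm ▸ le_sup_right))
  have hYR : (commutator P).map P.subtype ≤ R := hR ▸ le_sup_right
  haveI : Fintype M := Fintype.ofFinite _
  haveI : Fintype ((commutator P).map P.subtype) := Fintype.ofFinite _
  have hgM : g ∈ M := hM ▸ hg
  obtain ⟨c₁, hc₁, h1⟩ := sum_mem_eq_natCast_mul R M hMR (χ : G → ℂ) 0
    (fun a _ => Helper83.irr_sum_normal_eq_zero M χ.2 g hgM hne a)
  have hs : ∀ a ∈ R, ∑ h : (commutator P).map P.subtype, (χ : G → ℂ) (a * h) =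
      ∑ h : (commutator P).map P.subtype, (χ : G → ℂ) h := by
    intro a ha
    rw [hR] at ha
    obtain ⟨k, hk, y, hy, rfl⟩ := Subgroup.mem_sup_of_normal_left.mp ha
    rw [← Equiv.sum_comp (Equiv.mulLeft (⟨y, hy⟩ : (commutator P).map P.subtype))
      (fun h : (commutator P).map P.subtype => (χ : G → ℂ) h)]
    refine Finset.sum_congr rfl (fun h _ => ?_)
    show (χ : G → ℂ) (k * y * h) = (χ : G → ℂ) (y * h)
    rw [mul_assoc]
    exact irr_mul_of_mem_ker χ.2 ((hmemK k).mp hk) _
  obtain ⟨c₂, hc₂, h2⟩ := sum_mem_eq_natCast_mul R ((commutator P).map P.subtype) hYR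
    (χ : G → ℂ) _ hs
  rw [h1, mul_zero] at h2
  have h3 : ∑ h : (commutator P).map P.subtype, (χ : G → ℂ) h = 0 := by
    rcases mul_eq_zero.mp h2.symm with h | h
    · exact absurd (by exact_mod_cast h) hc₂
    · exact h
  apply sum_commutator_ne_zero p P hP χ hχ
  rw [← h3]
  refine Fintype.sum_equiv (Subgroup.equivMapOfInjective (commutator P) P.subtype
    (Subgroup.subtype_injective P)).toEquiv _ _ (fun d => ?_)
  show (χ : G → ℂ) ((d : P) : G) = (χ : G → ℂ) ((Subgroup.equivMapOfInjective (commutator P)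
    P.subtype (Subgroup.subtype_injective P) d : (commutator P).map P.subtype) : G)
  rw [Subgroup.coe_equivMapOfInjective_apply]
  rfl

/-- An element on which all linear characters are trivial lies in the derived subgroup. -/
theorem mem_commutator_of_linear {Q : Type*} [Group Q] [Finite Q] (y : Q)
    (h : ∀ l : IrrCharacter Q, (l : Q → ℂ) 1 = 1 → (l : Q → ℂ) y = 1) : y ∈ commutator Q := by
  by_contra hy
  have hne : Abelianization.of y ≠ 1 := by
    intro h1
    apply hy
    rw [← Abelianization.ker_of Q]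
    exact h1
  haveI : NeZero (Monoid.exponent (Abelianization Q)) := ⟨Monoid.exponent_ne_zero_of_finite⟩
  obtain ⟨φ, hφ⟩ :=
    CommGroup.exists_apply_ne_one_of_hasEnoughRootsOfUnity (Abelianization Q) ℂ hne
  have h1 := h ⟨_, Helper83.isIrr_of_hom (φ.comp Abelianization.of)⟩ (by
    show (((φ.comp Abelianization.of) 1 : ℂˣ) : ℂ) = 1
    simp)
  apply hφ
  exact Units.ext h1

/-- An element of a Sylow `p`-subgroup `P` in the kernel of all irreducible characters of degree
prime to `p` is in the kernel of all linear characters of `P`. -/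
theorem linear_eq_one_of_mem_ker {G : Type*} [Group G] [Fintype G] (p : ℕ) [Fact p.Prime]
    (P : Sylow p G) (y : G) (hyP : y ∈ (P : Subgroup G))
    (hy : ∀ χ : IrrCharacter G, ¬ p ∣ charDegree (χ : G → ℂ) → (χ : G → ℂ) y = (χ : G → ℂ) 1)
    (l : IrrCharacter (P : Subgroup G)) (hl : (l : ↥(P : Subgroup G) → ℂ) 1 = 1) :
    (l : ↥(P : Subgroup G) → ℂ) ⟨y, hyP⟩ = 1 := by
  classical
  haveI : Fintype (P : Subgroup G) := Fintype.ofFinite _
  have : Finite (IrrCharacter G) := Helper4.irr_finite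
  haveI : Fintype (IrrCharacter G) := Fintype.ofFinite _
  have hψ : IsCharacter G (indFun (P : Subgroup G) (l : ↥(P : Subgroup G) → ℂ)) :=
    Helper35.isCharacter_indFun _ (Helper35.isChar_of_irr l.2)
  obtain ⟨a, ha⟩ := Helper4.exists_decomp_of_isCharacter _ hψ
  have hdeg : (P : Subgroup G).index = ∑ χ : IrrCharacter G, a χ * charDegree (χ : G → ℂ) := by
    have h1 := congrFun ha 1
    rw [Helper35.indFun_one_eq, hl, mul_one, Finset.sum_apply] at h1
    have h2 : ∀ χ : IrrCharacter G, ((a χ : ℂ) • (χ : G → ℂ)) 1 =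
        ((a χ * charDegree (χ : G → ℂ) : ℕ) : ℂ) := by
      intro χ
      rw [Pi.smul_apply, smul_eq_mul, (Helper83.irr_degree χ.2).2]
      push_cast
      rfl
    rw [Finset.sum_congr rfl (fun χ _ => h2 χ)] at h1
    exact_mod_cast h1
  have hex : ∃ χ : IrrCharacter G, a χ ≠ 0 ∧ ¬ p ∣ charDegree (χ : G → ℂ) := by
    by_contra hcon
    push Not at hcon
    apply P.not_dvd_index
    rw [hdeg]
    refine Finset.dvd_sum (fun χ _ => ?_)
    by_cases h0 : a χ = 0
    · rw [h0, zero_mul]
      exact dvd_zero p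
    · exact Dvd.dvd.mul_left (hcon χ h0) _
  obtain ⟨χ, haχ, hχ⟩ := hex
  have hcf : IsClassFunction G (χ : G → ℂ) :=
    Helper35.isClassFunction_of_isCharacter (Helper35.isChar_of_irr χ.2)
  have hin : classInner (l : ↥(P : Subgroup G) → ℂ)
      (Helper35.res (P : Subgroup G) (χ : G → ℂ)) = (a χ : ℂ) := by
    rw [← Helper35.frobenius_reciprocity (P : Subgroup G) _ _ hcf, ha]
    exact Helper4.classInner_sum_irr (fun χ => (a χ : ℂ)) χ
  by_contra hne
  have hyK : (χ : G → ℂ) y = (χ : G → ℂ) 1 := hy χ hχ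
  obtain ⟨Z, hZ⟩ : ∃ Z : Subgroup (P : Subgroup G),
      Z = (Helper83.irrKer χ).subgroupOf (P : Subgroup G) := ⟨_, rfl⟩
  haveI : Z.Normal := hZ ▸ Subgroup.normal_subgroupOf
  haveI : Fintype Z := Fintype.ofFinite _
  have hmemZ : ∀ z : (P : Subgroup G), z ∈ Z ↔ (χ : G → ℂ) (z : G) = (χ : G → ℂ) 1 := by
    intro z
    rw [hZ, Subgroup.mem_subgroupOf, Helper83.mem_irrKer]
  have hyZ : (⟨y, hyP⟩ : (P : Subgroup G)) ∈ Z := (hmemZ _).mpr hyK
  have hne' : (l : ↥(P : Subgroup G) → ℂ) ⟨y, hyP⟩ ≠ (l : ↥(P : Subgroup G) → ℂ) 1 := by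
    rw [hl]
    exact hne
  have hzero := Helper83.irr_sum_normal_eq_zero Z l.2 ⟨y, hyP⟩ hyZ hne'
  obtain ⟨c, hc, hsum⟩ := sum_mem_eq_natCast_mul (⊤ : Subgroup (P : Subgroup G)) Z le_top
    (fun x => (l : ↥(P : Subgroup G) → ℂ) x * conj ((χ : G → ℂ) (x : G))) 0 (by
      intro x _
      have h1 : ∀ z : Z, (l : ↥(P : Subgroup G) → ℂ) (x * z) *
          conj ((χ : G → ℂ) ((x * (z : (P : Subgroup G)) : (P : Subgroup G)) : G)) =
          (l : ↥(P : Subgroup G) → ℂ) (x * z) * conj ((χ : G → ℂ) (x : G)) := by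
        intro z
        congr 2
        have hz : (χ : G → ℂ) ((z : (P : Subgroup G)) : G) = (χ : G → ℂ) 1 :=
          (hmemZ _).mp z.2
        rw [Subgroup.coe_mul, Helper83.irr_mul_comm χ.2]
        exact irr_mul_of_mem_ker χ.2 hz _
      rw [Finset.sum_congr rfl (fun z _ => h1 z), ← Finset.sum_mul, hzero x, zero_mul])
  apply haχ
  have h5 : classInner (l : ↥(P : Subgroup G) → ℂ)
      (Helper35.res (P : Subgroup G) (χ : G → ℂ)) = 0 := by
    unfold classInner
    have h6 : ∑ x : (P : Subgroup G), (l : ↥(P : Subgroup G) → ℂ) x *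
        conj (Helper35.res (P : Subgroup G) (χ : G → ℂ) x) = 0 := by
      rw [mul_zero] at hsum
      rw [← hsum]
      refine Finset.sum_congr rfl (fun x _ => ?_)
      rw [if_pos (Subgroup.mem_top x)]
      rfl
    rw [h6, mul_zero]
  rw [hin] at h5
  exact_mod_cast h5

/-- A normal `p'`-subgroup in the kernel of every irreducible character of degree prime to `p`
has no fixed points under a Sylow `p`-subgroup. -/
theorem centralizer_inf_eq_bot_of_le_ker {G : Type*} [Group G] [Fintype G] (p : ℕ)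
    [Fact p.Prime] (P : Sylow p G) (L : Subgroup G) [hL : L.Normal]
    (hLp : (Nat.card L).Coprime p)
    (hker : ∀ χ : IrrCharacter G, ¬ p ∣ charDegree (χ : G → ℂ) →
      ∀ x ∈ L, (χ : G → ℂ) x = (χ : G → ℂ) 1) :
    L ⊓ Subgroup.centralizer ((P : Subgroup G) : Set G) = ⊥ := by
  classical
  rw [eq_bot_iff]
  intro c hc
  rw [Subgroup.mem_bot]
  by_contra hc1
  obtain ⟨hcL, hcC⟩ := Subgroup.mem_inf.mp hc
  haveI : Fintype L := Fintype.ofFinite _
  haveI : Fintype (P : Subgroup G) := Fintype.ofFinite _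
  have : Finite (IrrCharacter L) := Helper4.irr_finite
  haveI : Fintype (IrrCharacter L) := Fintype.ofFinite _
  have : Finite (IrrCharacter G) := Helper4.irr_finite
  haveI : Fintype (IrrCharacter G) := Fintype.ofFinite _
  letI : MulAction (P : Subgroup G) (IrrCharacter L) := irrAct L (P : Subgroup G)
  have hsmul : ∀ (x : (P : Subgroup G)) (θ : IrrCharacter L),
      ((x • θ : IrrCharacter L) : L → ℂ) = Helper20.conjFun L (θ : L → ℂ) (x : G)⁻¹ :=
    fun x θ => rfl
  obtain ⟨t, ht⟩ : ∃ t : IrrCharacter L, t = Helper83.trivIrr L := ⟨_, rfl⟩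
  have htval : ∀ n : L, (t : L → ℂ) n = 1 := fun n => by rw [ht]; rfl
  have htfix : ∀ x : (P : Subgroup G), x • t = t := by
    intro x
    apply Subtype.ext
    rw [hsmul]
    funext n
    rw [Helper20.conjFun_apply, htval, htval]
  have ht_iff : ∀ (x : (P : Subgroup G)) (θ : IrrCharacter L), x • θ = t ↔ θ = t := by
    intro x θ
    constructor
    · intro h
      rw [← htfix x] at h
      exact MulAction.injective x h
    · rintro rfl
      exact htfix x
  have hsum0 : ∀ θ : IrrCharacter L, θ ≠ t → ∑ n : L, (θ : L → ℂ) n = 0 := by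
    intro θ hθ
    have h1 := Helper83.irr_orthonormal θ t
    rw [if_neg hθ] at h1
    unfold classInner at h1
    have hc : (Nat.card L : ℂ) ≠ 0 := by exact_mod_cast Nat.card_pos.ne'
    have h2 := (mul_eq_zero.mp h1).resolve_left (inv_ne_zero hc)
    rw [← h2]
    refine Finset.sum_congr rfl (fun n _ => ?_)
    rw [htval]
    simp
  -- a nonprincipal invariant character
  have hex : ∃ θ : IrrCharacter L, θ ≠ t ∧
      ∀ x ∈ (P : Subgroup G), Helper20.conjFun L (θ : L → ℂ) x = θ := by
    by_contra hcon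
    push Not at hcon
    obtain ⟨c', hc'⟩ : ∃ c' : L, c' = ⟨c, hcL⟩ := ⟨_, rfl⟩
    have hc'1 : c' ≠ 1 := fun h => hc1 (by rw [hc'] at h; exact congrArg Subtype.val h)
    have hval : ∀ (x : (P : Subgroup G)) (θ : IrrCharacter L),
        ((x • θ : IrrCharacter L) : L → ℂ) c' = (θ : L → ℂ) c' := by
      intro x θ
      rw [hsmul, Helper20.conjFun_apply]
      refine congrArg (θ : L → ℂ) (Subtype.ext ?_)
      show (x : G)⁻¹ * (c' : G) * ((x : G)⁻¹)⁻¹ = c'
      have h1 := (Subgroup.mem_centralizer_iff.mp hcC) (x : G) x.2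
      rw [hc', inv_inv, mul_assoc, ← h1, inv_mul_cancel_left]
    have hval1 : ∀ (x : (P : Subgroup G)) (θ : IrrCharacter L),
        ((x • θ : IrrCharacter L) : L → ℂ) 1 = (θ : L → ℂ) 1 := by
      intro x θ
      rw [hsmul, Helper20.conjFun_apply]
      refine congrArg (θ : L → ℂ) (Subtype.ext ?_)
      simp
    obtain ⟨α, hα, hsum⟩ := sum_eq_p_mul_of_fixed_zero p (Q := (P : Subgroup G))
      (X := IrrCharacter L) P.isPGroup'
      (fun θ => if θ = t then 0 else (θ : L → ℂ) c' * (θ : L → ℂ) 1)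
      (fun x θ => by
        show (if x • θ = t then 0 else ((x • θ : IrrCharacter L) : L → ℂ) c' *
          ((x • θ : IrrCharacter L) : L → ℂ) 1) = _
        rw [hval, hval1]
        by_cases h : θ = t
        · rw [if_pos h, if_pos ((ht_iff x θ).mpr h)]
        · rw [if_neg h, if_neg (fun h' => h ((ht_iff x θ).mp h'))])
      (fun θ => by
        show IsIntegral ℤ (if θ = t then (0 : ℂ) else (θ : L → ℂ) c' * (θ : L → ℂ) 1)
        split_ifs
        · exact isIntegral_zero
        · exact IsIntegral.mul (Helper4.irr_isIntegral θ c') (Helper4.irr_isIntegral θ 1))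
      (fun θ hfix => by
        show (if θ = t then (0 : ℂ) else (θ : L → ℂ) c' * (θ : L → ℂ) 1) = 0
        rw [if_pos]
        by_contra hθ
        obtain ⟨x, hx, hx2⟩ := hcon θ hθ
        apply hx2
        have h1 := congrArg Subtype.val (hfix ⟨x⁻¹, (P : Subgroup G).inv_mem hx⟩)
        rw [hsmul] at h1
        simpa using h1)
    have h1 : ∑ θ : IrrCharacter L, (if θ = t then 0 else (θ : L → ℂ) c' * (θ : L → ℂ) 1) = -1 := by
      have h2 : ∀ θ : IrrCharacter L, (if θ = t then 0 else (θ : L → ℂ) c' * (θ : L → ℂ) 1) =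
          (θ : L → ℂ) c' * (θ : L → ℂ) 1 - (if θ = t then 1 else 0) := by
        intro θ
        split_ifs with h
        · rw [h, htval, htval]
          ring
        · ring
      rw [Finset.sum_congr rfl (fun θ _ => h2 θ), Finset.sum_sub_distrib,
        Helper84.col_orth_one c' hc'1, Finset.sum_ite_eq' Finset.univ t (fun _ => (1 : ℂ)),
        if_pos (Finset.mem_univ _), zero_sub]
    have h3 : (((-1 : ℤ)) : ℂ) = (p : ℂ) * α := by
      rw [← hsum, h1]
      simp
    have h4 := Helper4.int_dvd_of_eq_mul_isIntegral p (Fact.out : p.Prime).ne_zero _ _ hα h3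
    have h5 : (p : ℤ) ∣ 1 := (dvd_neg.mp h4)
    have h6 : p ∣ 1 := by exact_mod_cast h5
    exact (Fact.out : p.Prime).one_lt.ne' (Nat.dvd_one.mp h6)
  obtain ⟨θ, hθt, hθinv⟩ := hex
  -- the induced character
  have hψ : IsCharacter G (indFun L (θ : L → ℂ)) :=
    Helper35.isCharacter_indFun _ (Helper35.isChar_of_irr θ.2)
  obtain ⟨a, ha⟩ := Helper4.exists_decomp_of_isCharacter _ hψ
  have hcfχ : ∀ χ : IrrCharacter G, IsClassFunction G (χ : G → ℂ) := fun χ =>
    Helper35.isClassFunction_of_isCharacter (Helper35.isChar_of_irr χ.2)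
  have hin : ∀ χ : IrrCharacter G,
      classInner (θ : L → ℂ) (Helper35.res L (χ : G → ℂ)) = (a χ : ℂ) := by
    intro χ
    rw [← Helper35.frobenius_reciprocity L _ _ (hcfχ χ), ha]
    exact Helper4.classInner_sum_irr (fun χ => (a χ : ℂ)) χ
  have hzero : ∀ χ : IrrCharacter G, ¬ p ∣ charDegree (χ : G → ℂ) → a χ = 0 := by
    intro χ hχ
    have h1 : classInner (θ : L → ℂ) (Helper35.res L (χ : G → ℂ)) = 0 := by
      unfold classInner
      have h2 : ∑ n : L, (θ : L → ℂ) n * conj (Helper35.res L (χ : G → ℂ) n) =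
          (∑ n : L, (θ : L → ℂ) n) * conj ((χ : G → ℂ) 1) := by
        rw [Finset.sum_mul]
        refine Finset.sum_congr rfl (fun n _ => ?_)
        rw [Helper35.res_apply, hker χ hχ n n.2]
      rw [h2, hsum0 θ hθt, zero_mul, mul_zero]
    rw [hin] at h1
    exact_mod_cast h1
  have hb : ∀ χ : IrrCharacter G, ∃ b : ℕ,
      ∑ x : (P : Subgroup G), (χ : G → ℂ) x = (Nat.card (P : Subgroup G) : ℂ) * b := by
    intro χ
    have : Finite (IrrCharacter (P : Subgroup G)) := Helper4.irr_finite
    haveI : Fintype (IrrCharacter (P : Subgroup G)) := Fintype.ofFinite _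
    obtain ⟨m, hm, -, -⟩ := res_decomp χ (P : Subgroup G)
    refine ⟨m (Helper83.trivIrr _), ?_⟩
    rw [Finset.sum_congr rfl (fun x _ => hm x), Finset.sum_comm,
      Finset.sum_eq_single (Helper83.trivIrr _)]
    · rw [← Finset.mul_sum]
      simp only [Helper83.trivIrr_apply, Finset.sum_const, Finset.card_univ, nsmul_eq_mul,
        mul_one, Nat.card_eq_fintype_card]
      ring
    · intro η _ hη
      rw [← Finset.mul_sum]
      have h1 := Helper83.irr_orthonormal η (Helper83.trivIrr _)
      rw [if_neg hη] at h1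
      unfold classInner at h1
      have hc : (Nat.card (P : Subgroup G) : ℂ) ≠ 0 := by exact_mod_cast Nat.card_pos.ne'
      have h2 := (mul_eq_zero.mp h1).resolve_left (inv_ne_zero hc)
      have h3 : ∑ x : (P : Subgroup G), (η : ↥(P : Subgroup G) → ℂ) x = 0 := by
        rw [← h2]
        refine Finset.sum_congr rfl (fun n _ => ?_)
        rw [Helper83.trivIrr_apply]
        simp
      rw [h3, mul_zero]
    · intro h
      exact absurd (Finset.mem_univ _) h
  choose b hb using hb
  have hLP : ∀ x : (P : Subgroup G), (x : G) ∈ L → x = 1 := by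
    intro x hx
    obtain ⟨k, hk⟩ := P.isPGroup' x
    have h1 : orderOf (x : G) ∣ p ^ k := orderOf_dvd_of_pow_eq_one (by
      have := congrArg Subtype.val hk
      simpa using this)
    have h2 : orderOf (x : G) ∣ Nat.card L := by
      have := orderOf_dvd_natCard (⟨(x : G), hx⟩ : L)
      rwa [Subgroup.orderOf_mk] at this
    have h3 : orderOf (x : G) = 1 := Nat.eq_one_of_dvd_coprimes (hLp.pow_right k) h2 h1
    exact Subtype.ext (orderOf_eq_one_iff.mp h3)
  have hψP : ∑ x : (P : Subgroup G), indFun L (θ : L → ℂ) (x : G) =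
      (L.index : ℂ) * (θ : L → ℂ) 1 := by
    rw [Finset.sum_eq_single (1 : (P : Subgroup G))]
    · exact Helper35.indFun_one_eq L _
    · intro x _ hx
      unfold indFun
      have h1 : ∀ g : G, extendByZero L (θ : L → ℂ) (g⁻¹ * (x : G) * g) = 0 := by
        intro g
        apply Helper35.ext_not_mem
        intro hmem
        apply hx
        apply hLP
        have h2 := hL.conj_mem _ hmem g
        have h3 : g * (g⁻¹ * (x : G) * g) * g⁻¹ = x := by group
        rwa [h3] at h2
      simp [h1]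
    · intro h
      exact absurd (Finset.mem_univ _) h
  have hkey : (∑ χ : IrrCharacter G, a χ * b χ) * Nat.card (P : Subgroup G) =
      L.index * charDegree (θ : L → ℂ) := by
    have h1 : ∑ x : (P : Subgroup G), indFun L (θ : L → ℂ) (x : G) =
        ∑ χ : IrrCharacter G, (a χ : ℂ) * ((Nat.card (P : Subgroup G) : ℂ) * b χ) := by
      rw [ha]
      simp only [Finset.sum_apply, Pi.smul_apply, smul_eq_mul]
      rw [Finset.sum_comm]
      refine Finset.sum_congr rfl (fun χ _ => ?_)
      rw [← Finset.mul_sum, hb χ]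
    rw [hψP, (Helper83.irr_degree θ.2).2] at h1
    have h2 : ((L.index * charDegree (θ : L → ℂ) : ℕ) : ℂ) =
        (((∑ χ : IrrCharacter G, a χ * b χ) * Nat.card (P : Subgroup G) : ℕ) : ℂ) := by
      push_cast
      rw [h1, Finset.sum_mul]
      refine Finset.sum_congr rfl (fun χ _ => ?_)
      ring
    exact_mod_cast h2.symm
  have hnd : ¬ p ∣ ∑ χ : IrrCharacter G, a χ * b χ := by
    intro hdvd
    apply P.not_dvd_index
    have h1 : p * Nat.card (P : Subgroup G) ∣ L.index * charDegree (θ : L → ℂ) := by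
      rw [← hkey]
      exact Nat.mul_dvd_mul_right hdvd _
    have h2 : L.index * charDegree (θ : L → ℂ) ∣
        Nat.card (P : Subgroup G) * (P : Subgroup G).index := by
      rw [Subgroup.card_mul_index, ← Subgroup.card_mul_index L, mul_comm]
      exact Nat.mul_dvd_mul_right (Helper83.irr_degree_dvd_card θ) _
    have h3 := h1.trans h2
    rw [mul_comm p] at h3
    exact (Nat.mul_dvd_mul_iff_left Nat.card_pos).mp h3
  have hex2 : ∃ χ : IrrCharacter G, ¬ p ∣ a χ * b χ := by
    by_contra hcon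
    push Not at hcon
    exact hnd (Finset.dvd_sum (fun χ _ => hcon χ))
  obtain ⟨χ, hχab⟩ := hex2
  have haχ : ¬ p ∣ a χ := fun h => hχab (Dvd.dvd.mul_right h _)
  have ha0 : a χ ≠ 0 := fun h => haχ (h ▸ dvd_zero p)
  have hcon : classInner (fun h : L => (χ : G → ℂ) h) (θ : L → ℂ) = (a χ : ℂ) := by
    rw [Helper4.classInner_conj_symm]
    have h1 := hin χ
    have h2 : classInner (θ : L → ℂ) (fun h : L => (χ : G → ℂ) h) = (a χ : ℂ) := h1
    rw [h2]
    simp
  have hcon0 : classInner (fun h : L => (χ : G → ℂ) h) (θ : L → ℂ) ≠ 0 := by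
    rw [hcon]
    exact_mod_cast ha0
  have hdegχ := Helper20.clifford_degree L θ.2 χ.2 hcon0 (Helper20.inertia L (θ : L → ℂ))
    (fun g => Iff.rfl)
  rw [hcon, (Helper83.irr_degree χ.2).2, (Helper83.irr_degree θ.2).2] at hdegχ
  have hdegχ' : charDegree (χ : G → ℂ) =
      a χ * (Helper20.inertia L (θ : L → ℂ)).index * charDegree (θ : L → ℂ) := by
    exact_mod_cast hdegχ
  have hPT : (P : Subgroup G) ≤ Helper20.inertia L (θ : L → ℂ) := fun x hx =>
    (Helper20.mem_inertia L _ x).mpr (hθinv x hx)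
  have hχp : ¬ p ∣ charDegree (χ : G → ℂ) := by
    rw [hdegχ']
    intro h
    rcases (Nat.Prime.dvd_mul (Fact.out : p.Prime)).mp h with h | h
    · rcases (Nat.Prime.dvd_mul (Fact.out : p.Prime)).mp h with h | h
      · exact haχ h
      · exact P.not_dvd_index (h.trans (Subgroup.index_dvd_of_le hPT))
    · have h1 := h.trans (Helper83.irr_degree_dvd_card θ)
      exact (Nat.Prime.coprime_iff_not_dvd (Fact.out : p.Prime)).mp hLp.symm h1
  exact ha0 (hzero χ hχp)

/-- A normal subgroup `K` with a normal `p`-complement: the complement is normal in the whole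
group, of order prime to `p`, and `K` is its product with `K ∩ P` for any Sylow `p`-subgroup. -/
theorem exists_normal_compl {G : Type*} [Group G] [Finite G] (p : ℕ) [Fact p.Prime]
    (P : Sylow p G) (K : Subgroup G) [hK : K.Normal] (h : HasNormalPComplement p K) :
    ∃ L : Subgroup G, L.Normal ∧ L ≤ K ∧ (Nat.card L).Coprime p ∧
      K ≤ L ⊔ (K ⊓ (P : Subgroup G)) := by
  classical
  obtain ⟨Q, L', hL'n, hcompl⟩ := h
  haveI := hL'n
  have hcardL' : (Nat.card L').Coprime p := by
    have h1 : (Q : Subgroup K).index = Nat.card L' := hcompl.index_eq_card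
    have h2 : ¬ p ∣ (Q : Subgroup K).index := Q.not_dvd_index
    rw [h1] at h2
    exact ((Nat.Prime.coprime_iff_not_dvd (Fact.out : p.Prime)).mpr h2).symm
  obtain ⟨k, hk⟩ : ∃ k : ℕ, L'.index = p ^ k := by
    have h1 : L'.index = Nat.card (Q : Subgroup K) := hcompl.symm.index_eq_card
    obtain ⟨k, hk⟩ := IsPGroup.iff_card.mp Q.isPGroup'
    exact ⟨k, h1.trans hk⟩
  have hpel : ∀ y : K, (orderOf y).Coprime p → y ∈ L' := by
    intro y hy
    have h1 : orderOf (QuotientGroup.mk' L' y) ∣ orderOf y := orderOf_map_dvd _ y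
    have h2 : orderOf (QuotientGroup.mk' L' y) ∣ p ^ k := by
      rw [← hk, Subgroup.index_eq_card]
      exact orderOf_dvd_natCard _
    have h3 : orderOf (QuotientGroup.mk' L' y) = 1 :=
      Nat.eq_one_of_dvd_coprimes (hy.pow_right k) h1 h2
    have h4 := orderOf_eq_one_iff.mp h3
    exact (QuotientGroup.eq_one_iff y).mp h4
  have hconj : ∀ (l : K), l ∈ L' → ∀ g : G, g * (l : G) * g⁻¹ ∈ L'.map K.subtype := by
    intro l hl g
    have hmem : g * (l : G) * g⁻¹ ∈ K := hK.conj_mem _ l.2 g
    refine ⟨⟨g * (l : G) * g⁻¹, hmem⟩, hpel _ ?_, rfl⟩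
    have h1 : orderOf (⟨g * (l : G) * g⁻¹, hmem⟩ : K) = orderOf l := by
      rw [Subgroup.orderOf_mk, ← Subgroup.orderOf_coe l]
      exact orderOf_injective (MulAut.conj g).toMonoidHom (MulAut.conj g).injective (l : G)
    rw [h1]
    have h2 : orderOf l ∣ Nat.card L' := by
      have := orderOf_dvd_natCard (⟨l, hl⟩ : L')
      rwa [Subgroup.orderOf_mk] at this
    exact Nat.Coprime.coprime_dvd_left h2 hcardL'
  refine ⟨L'.map K.subtype, ⟨?_⟩, Subgroup.map_subtype_le _, ?_, ?_⟩
  · rintro _ ⟨l, hl, rfl⟩ g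
    exact hconj l hl g
  · rw [Subgroup.card_map_of_injective K.subtype_injective]
    exact hcardL'
  · intro x hx
    obtain ⟨S, hS⟩ := (Q.isPGroup'.map K.subtype).exists_le_sylow
    obtain ⟨g, hg⟩ := MulAction.exists_smul_eq G S P
    have hQP : ∀ q : K, q ∈ (Q : Subgroup K) → g * (q : G) * g⁻¹ ∈ (P : Subgroup G) := by
      intro q hq
      rw [← hg, Sylow.coe_subgroup_smul, Subgroup.mem_pointwise_smul_iff_inv_smul_mem]
      have h1 : (MulAut.conj g)⁻¹ • (g * (q : G) * g⁻¹) = (q : G) := by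
        simp [MulAut.smul_def, MulAut.conj_inv_apply, mul_assoc]
      rw [h1]
      exact hS ⟨q, hq, rfl⟩
    have hx1 : g⁻¹ * x * g ∈ K := by
      have := hK.conj_mem x hx g⁻¹
      rwa [inv_inv] at this
    obtain ⟨⟨l, q⟩, hlq, -⟩ := (Subgroup.isComplement'_def.mp hcompl).existsUnique
      (⟨g⁻¹ * x * g, hx1⟩ : K)
    have h2 : ((l : K) : G) * ((q : K) : G) = g⁻¹ * x * g := by
      have := congrArg Subtype.val hlq
      simpa using this
    have h3 : x = (g * ((l : K) : G) * g⁻¹) * (g * ((q : K) : G) * g⁻¹) := by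
      have : g * (((l : K) : G) * ((q : K) : G)) * g⁻¹ = x := by
        rw [h2]
        group
      rw [← this]
      group
    rw [h3]
    refine Subgroup.mul_mem_sup (hconj (l : K) l.2 g) (Subgroup.mem_inf.mpr ⟨?_, hQP (q : K) q.2⟩)
    exact hK.conj_mem _ (q : K).2 g

end Cfsg.Agent.Lib.Helper86
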