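import Mathlib
import Cfsg.Prelude.Def_Classical
import Cfsg.Agent.Lib.Helper99.IsoModel
import Cfsg.Agent.Lib.Helper99.D4Orth

/-!
Project PN4 (helper52, for S2715), piece PSI, general form: for coordinates
`ψ : (Fin 4 ⊕ Fin 4 → F) ≃ₗ (Fin 8 → F)` carrying `quadFormPlus 4 F` to `Q8` and a surjection `f`
of `Ω₈⁺ = commutator (O8 F)` with kernel the centre, the induced isomorphism
`Ψ : PΩ(quadFormPlus 4 F) ≃* G` with `Ψ (mk s) = f (ρ s)` and the matrix formula of `ρ`.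
-/

set_option autoImplicit false
set_option linter.unusedSectionVars false
set_option linter.unusedVariables false

namespace Cfsg.Agent.Lib.Helper86.PN4PSIgen

open Cfsg Matrix Cfsg.Agent.Lib.Helper99 Cfsg.Agent.Lib.Helper99.D4

variable {F : Type*} [Field F]

/-- the matrix of the image of a model isometry under `isoEquiv` -/
theorem pn4psi_isoEquiv_mulVec {ι : Type} [Fintype ι] [DecidableEq ι]
    {W : Type*} [AddCommGroup W] [Module F W] (ψ : (ι → F) ≃ₗ[F] W) (Q : (ι → F) → F)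
    (N : W → F) (hN : ∀ v, N (ψ v) = Q v) (u : isoUnits N) (v : ι → F) :
    (((isoEquiv ψ Q N hN u : isometryGroup F Q) : GL ι F) : Matrix ι ι F) *ᵥ v =
      ψ.symm (((u : (Module.End F W)ˣ) : Module.End F W) (ψ v)) := by
  have h2 : (((isoEquiv ψ Q N hN u : isometryGroup F Q) : GL ι F) : Matrix ι ι F) =
      endEquivMat ψ ((u : (Module.End F W)ˣ) : Module.End F W) := rfl
  rw [h2, endEquivMat_mulVec]

/-- the matrix formula of the composite of the two `isoEquiv`s (helper99's `o8Equiv` for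
`ψ = psi8`) -/
theorem pn4psi_o8Equiv_mulVec (ψ : (Fin 4 ⊕ Fin 4 → F) ≃ₗ[F] (Fin 8 → F))
    (hψ : ∀ v, Q8 (ψ v) = quadFormPlus 4 F v) (g : O8 F) (v : Fin 4 ⊕ Fin 4 → F) :
    (((((isoEquiv (LinearEquiv.refl F (Fin 8 → F)) (Q8 (F := F)) (Q8 (F := F))
        (fun _ => rfl)).symm.trans (isoEquiv ψ (quadFormPlus 4 F) (Q8 (F := F)) hψ)) g :
        isometryGroup F (quadFormPlus 4 F)) : GL (Fin 4 ⊕ Fin 4) F) :
      Matrix (Fin 4 ⊕ Fin 4) (Fin 4 ⊕ Fin 4) F) *ᵥ v = ψ.symm (toM8 g *ᵥ ψ v) := by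
  obtain ⟨u, rfl⟩ := (isoEquiv (LinearEquiv.refl F (Fin 8 → F)) (Q8 (F := F)) (Q8 (F := F))
    (fun _ => rfl)).surjective g
  rw [MulEquiv.trans_apply, MulEquiv.symm_apply_apply, pn4psi_isoEquiv_mulVec]
  have h2 : toM8 (isoEquiv (LinearEquiv.refl F (Fin 8 → F)) (Q8 (F := F)) (Q8 (F := F))
      (fun _ => rfl) u) *ᵥ ψ v =
      ((u : (Module.End F (Fin 8 → F))ˣ) : Module.End F (Fin 8 → F)) (ψ v) := by
    have h3 := pn4psi_isoEquiv_mulVec (LinearEquiv.refl F (Fin 8 → F)) (Q8 (F := F))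
      (Q8 (F := F)) (fun _ => rfl) u (ψ v)
    have h4 : ∀ g : O8 F, toM8 g = ((g : GL (Fin 8) F) : Matrix (Fin 8) (Fin 8) F) :=
      fun g => rfl
    rw [h4]
    simpa using h3
  rw [h2]

/-- piece PSI in general form -/
theorem pn4psi_gen {G : Type*} [Group G] (ψ : (Fin 4 ⊕ Fin 4 → F) ≃ₗ[F] (Fin 8 → F))
    (hψ : ∀ v, Q8 (ψ v) = quadFormPlus 4 F v)
    (f : ↥(commutator (O8 F)) →* G) (hf : Function.Surjective f)
    (hk : f.ker = Subgroup.center ↥(commutator (O8 F))) :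
    ∃ (Ψ : POmega F (quadFormPlus 4 F) ≃* G)
      (ρ : ↥(Omega F (quadFormPlus 4 F)) ≃* ↥(commutator (O8 F))),
      (∀ s : ↥(Omega F (quadFormPlus 4 F)), Ψ (QuotientGroup.mk s) = f (ρ s)) ∧
      (∀ (s : ↥(Omega F (quadFormPlus 4 F))) (v : Fin 4 ⊕ Fin 4 → F),
        (((s : ↥(isometryGroup F (quadFormPlus 4 F))) : GL (Fin 4 ⊕ Fin 4) F) :
          Matrix (Fin 4 ⊕ Fin 4) (Fin 4 ⊕ Fin 4) F) *ᵥ v =
          ψ.symm (toM8 (ρ s).1 *ᵥ ψ v)) := by
  set e : O8 F ≃* isometryGroup F (quadFormPlus 4 F) :=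
    (isoEquiv (LinearEquiv.refl F (Fin 8 → F)) (Q8 (F := F)) (Q8 (F := F))
      (fun _ => rfl)).symm.trans (isoEquiv ψ (quadFormPlus 4 F) (Q8 (F := F)) hψ) with he
  have hmap : (commutator ↥(isometryGroup F (quadFormPlus 4 F))).map
      e.symm.toMonoidHom = commutator ↥(O8 F) := by
    rw [commutator_def, commutator_def, Subgroup.map_commutator,
      Subgroup.map_top_of_surjective _ e.symm.surjective]
  let ρ : ↥(Omega F (quadFormPlus 4 F)) ≃* ↥(commutator (O8 F)) :=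
    (e.symm.subgroupMap (commutator ↥(isometryGroup F (quadFormPlus 4 F)))).trans
      (MulEquiv.subgroupCongr hmap)
  have hρ : ∀ s : ↥(Omega F (quadFormPlus 4 F)), (ρ s).1 = e.symm s.1 := fun s => rfl
  let φ : ↥(Omega F (quadFormPlus 4 F)) →* G := f.comp ρ.toMonoidHom
  have hsurj : Function.Surjective φ := hf.comp ρ.surjective
  have hker : φ.ker = Subgroup.center ↥(Omega F (quadFormPlus 4 F)) := by
    ext x
    rw [MonoidHom.mem_ker]
    have h1 : φ x = 1 ↔ ρ x ∈ f.ker := by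
      rw [MonoidHom.mem_ker]
      rfl
    rw [h1, hk, Subgroup.mem_center_iff, Subgroup.mem_center_iff]
    constructor
    · intro h z
      apply ρ.injective
      rw [map_mul, map_mul]
      exact h (ρ z)
    · intro h z
      obtain ⟨w, rfl⟩ := ρ.surjective z
      rw [← map_mul, ← map_mul, h w]
  refine ⟨(QuotientGroup.quotientMulEquivOfEq hker.symm).trans
    (QuotientGroup.quotientKerEquivOfSurjective φ hsurj), ρ, fun s => rfl, fun s v => ?_⟩
  rw [hρ s]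
  have h1 := pn4psi_o8Equiv_mulVec ψ hψ (e.symm s.1) v
  rw [← he, MulEquiv.apply_symm_apply] at h1
  exact h1

end Cfsg.Agent.Lib.Helper86.PN4PSIgen
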