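import Mathlib

/-! Project QB (helper48, S2359), piece PRED (backup copy by helper86): reduction of the
centralizer of `x` to the centralizer of a power of prime order. -/

set_option autoImplicit false

namespace Cfsg.Agent.Lib.Helper48.QB

-- QB-PRED
theorem prime_red {G : Type*} [Group G] [Finite G] (n : ℕ)
    (hkey : ∀ y : G, (orderOf y).Prime → y ^ n = 1 →
      ∀ a ∈ Subgroup.centralizer {y}, ∀ b ∈ Subgroup.centralizer {y}, a * b = b * a)
    (x : G) (hx : x ≠ 1) (hxn : x ^ n = 1) :
    ∃ y : G, (orderOf y).Prime ∧ y ^ n = 1 ∧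
      Subgroup.centralizer {x} = Subgroup.centralizer {y} := by
  have ho1 : orderOf x ≠ 1 := fun h => hx (orderOf_eq_one_iff.1 h)
  have hopos : 0 < orderOf x := orderOf_pos x
  have hrp : (orderOf x).minFac.Prime := Nat.minFac_prime ho1
  have hrd : (orderOf x).minFac ∣ orderOf x := Nat.minFac_dvd _
  obtain ⟨k, hk⟩ : ∃ k, k = orderOf x / (orderOf x).minFac := ⟨_, rfl⟩
  have hyo : orderOf (x ^ k) = (orderOf x).minFac := by
    rw [hk]
    exact orderOf_pow_orderOf_div hopos.ne' hrd
  have hyn : (x ^ k) ^ n = 1 := by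
    rw [← pow_mul, mul_comm, pow_mul, hxn, one_pow]
  have hyp : (orderOf (x ^ k)).Prime := by
    rw [hyo]
    exact hrp
  refine ⟨x ^ k, hyp, hyn, ?_⟩
  have hcomm := hkey (x ^ k) hyp hyn
  have hxy : x ∈ Subgroup.centralizer ({x ^ k} : Set G) := by
    rw [Subgroup.mem_centralizer_iff]
    intro h hh
    rw [Set.mem_singleton_iff.1 hh]
    exact pow_mul_comm' x k
  apply le_antisymm
  · intro c hc
    rw [Subgroup.mem_centralizer_iff] at hc ⊢
    intro h hh
    rw [Set.mem_singleton_iff.1 hh]
    have h1 : x * c = c * x := hc x (Set.mem_singleton x)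
    exact (Commute.pow_left (show Commute x c from h1) k).eq
  · intro c hc
    rw [Subgroup.mem_centralizer_iff]
    intro h hh
    rw [Set.mem_singleton_iff.1 hh]
    exact hcomm x hxy c hc

end Cfsg.Agent.Lib.Helper48.QB
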