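import Mathlib
import Cfsg.Agent.Lib.Helper52.SP8EBDefs

/-! SP8-EB (sub-project of S5823, architect helper52), piece PUREG (helper86, insurance copy):
transported pure tensors of determinant-one matrices lie in `G = tensorWreath ⊓ isometries`. -/

set_option autoImplicit false

namespace Cfsg.Agent.Lib.Helper52.SP8EB

open Matrix Cfsg.Geo Cfsg.Agent.Lib.Helper71.Asch

variable {n : ℕ} {F : Type*} [Field F] [Fintype F]

theorem pureg86_tw_mulVec (e : Fin n ≃ (Fin 3 → Fin 2)) (P : GL (Fin n) F)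
    (A : Matrix (Fin 3 → Fin 2) (Fin 3 → Fin 2) F) (x : (Fin 3 → Fin 2) → F) :
    tw e P A *ᵥ (P.1 *ᵥ (x ∘ e)) = P.1 *ᵥ ((A *ᵥ x) ∘ e) := by
  unfold tw
  have h : (P⁻¹ : GL (Fin n) F).1 * P.1 = 1 := by
    rw [← Units.val_mul, inv_mul_cancel, Units.val_one]
  rw [Matrix.mulVec_mulVec, Matrix.mul_assoc, Matrix.mul_assoc, h, Matrix.mul_one,
    ← Matrix.mulVec_mulVec]
  congr 1
  funext j
  simp only [Matrix.mulVec, dotProduct, Matrix.reindex_apply, Matrix.submatrix_apply,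
    Equiv.symm_symm, Function.comp_apply]
  exact Fintype.sum_equiv e _ _ (fun _ => rfl)

theorem pureg86_sum_eq (M : Matrix (Fin 3 → Fin 2) (Fin 3 → Fin 2) F)
    (x y : (Fin 3 → Fin 2) → F) :
    ∑ a, ∑ b, x a * M a b * y b = x ⬝ᵥ M *ᵥ y := by
  simp only [dotProduct, Matrix.mulVec, Finset.mul_sum]
  refine Finset.sum_congr rfl fun a _ => Finset.sum_congr rfl fun b _ => by ring

theorem pureg86_conj (T M : Matrix (Fin 3 → Fin 2) (Fin 3 → Fin 2) F)
    (x y : (Fin 3 → Fin 2) → F) :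
    (T *ᵥ x) ⬝ᵥ M *ᵥ (T *ᵥ y) = x ⬝ᵥ (Tᵀ * M * T) *ᵥ y := by
  rw [← Matrix.vecMul_transpose T x, ← Matrix.dotProduct_mulVec, Matrix.mulVec_mulVec,
    Matrix.mulVec_mulVec, Matrix.mul_assoc]

theorem pureg86_gram (G A : Matrix (Fin 2) (Fin 2) F) (h00 : G 0 0 = 0) (h11 : G 1 1 = 0)
    (h10 : G 1 0 = - G 0 1) (hdet : A.det = 1) : Aᵀ * G * A = G := by
  rw [Matrix.det_fin_two] at hdet
  ext u v
  fin_cases u <;> fin_cases v <;>
    simp only [Matrix.mul_apply, Matrix.transpose_apply, Fin.sum_univ_two, Fin.zero_eta,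
      Fin.mk_one, h00, h11, h10]
  · ring
  · linear_combination (G 0 1) * hdet
  · linear_combination (-(G 0 1)) * hdet
  · ring

/-- PUREG. -/
theorem PUREG (f : (Fin n → F) → (Fin n → F) → F) (e : Fin n ≃ (Fin 3 → Fin 2)) (P : GL (Fin n) F)
    (f₁ : (Fin 2 → F) → (Fin 2 → F) → F) (hf₁ : IsSymplecticForm f₁)
    (htp : IsTensorPowerFormStructure id f f₁ e P) : HPureG f e P := by
  classical
  intro cs hcs g hg
  have hunit : ∀ i, IsUnit (cs i).det := fun i => by rw [hcs i]; exact isUnit_one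
  show g ∈ tensorWreathSubgroup 2 3 e P ⊓ isoSub f
  refine Subgroup.mem_inf.mpr ⟨?_, ?_⟩
  · rw [mem_tensorWreathSubgroup_iff]
    have h1 : pt cs * pt (fun i => (cs i)⁻¹) = 1 := by
      rw [pt_mul]
      have h : (fun i => cs i * (cs i)⁻¹) = fun _ : Fin 3 => (1 : Matrix (Fin 2) (Fin 2) F) := by
        funext i
        exact Matrix.mul_nonsing_inv _ (hunit i)
      rw [h, pt_one]
    have h2 : pt (fun i => (cs i)⁻¹) * pt cs = 1 := by
      rw [pt_mul]
      have h : (fun i => (cs i)⁻¹ * cs i) = fun _ : Fin 3 => (1 : Matrix (Fin 2) (Fin 2) F) := by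
        funext i
        exact Matrix.nonsing_inv_mul _ (hunit i)
      rw [h, pt_one]
    refine ⟨⟨pt cs, pt (fun i => (cs i)⁻¹), h1, h2⟩, Subgroup.subset_closure (Or.inl ?_), hg⟩
    exact ⟨fun i => ⟨cs i, (cs i)⁻¹, Matrix.mul_nonsing_inv _ (hunit i),
      Matrix.nonsing_inv_mul _ (hunit i)⟩, fun x y => rfl⟩
  · show ∀ u v, f (g.1 *ᵥ u) (g.1 *ᵥ v) = f u v
    obtain ⟨c, hc, hform⟩ := htp
    have hrep : ∀ u : Fin n → F, ∃ x : (Fin 3 → Fin 2) → F, u = P.1 *ᵥ (x ∘ e) := by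
      intro u
      refine ⟨((P⁻¹ : GL (Fin n) F).1 *ᵥ u) ∘ e.symm, ?_⟩
      have h : (((P⁻¹ : GL (Fin n) F).1 *ᵥ u) ∘ e.symm) ∘ e = (P⁻¹ : GL (Fin n) F).1 *ᵥ u := by
        funext j
        simp
      rw [h, Matrix.mulVec_mulVec, ← Units.val_mul, mul_inv_cancel, Units.val_one,
        Matrix.one_mulVec]
    have key : ∀ x' y' : (Fin 3 → Fin 2) → F,
        ∑ a, ∑ b, x' a * (∏ i, gramMatrix f₁ (a i) (b i)) * id (y' b) =
          x' ⬝ᵥ pt (fun _ : Fin 3 => gramMatrix f₁) *ᵥ y' := by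
      intro x' y'
      rw [← pureg86_sum_eq]
      rfl
    have hpt : (pt cs)ᵀ * pt (fun _ : Fin 3 => gramMatrix f₁) * pt cs =
        pt (fun _ : Fin 3 => gramMatrix f₁) := by
      rw [pt_transpose, pt_mul, pt_mul]
      congr 1
      funext i
      exact pureg86_gram (gramMatrix f₁) (cs i) (hf₁.alternating _) (hf₁.alternating _)
        (hf₁.skew _ _) (hcs i)
    intro u v
    obtain ⟨x, rfl⟩ := hrep u
    obtain ⟨y, rfl⟩ := hrep v
    rw [hg, pureg86_tw_mulVec, pureg86_tw_mulVec, hform, hform, key, key, pureg86_conj, hpt]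

end Cfsg.Agent.Lib.Helper52.SP8EB
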